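import Mathlib

/-!
# A signed sum of products of complementary block minors (helper5)

For an `(p+r) × (p+r)` matrix `N`, the sum over all column permutations `π` of
`sign π * det (top-left p×p block of N·P_π) * det (bottom-right r×r block of N·P_π)`
is `p! r! det N`.
-/

open Finset Matrix Equiv

namespace Groth.Agent.Helper5.BlockLaplace

variable {R : Type*} [CommRing R] {p r : ℕ}

/-- the permutation of `Fin (p + r)` acting by `σ` on the first block and `σ'` on the second -/
def blockPerm (σ : Perm (Fin p)) (σ' : Perm (Fin r)) : Perm (Fin (p + r)) :=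
  finSumFinEquiv.permCongr (Equiv.Perm.sumCongr σ σ')

theorem blockPerm_castAdd (σ : Perm (Fin p)) (σ' : Perm (Fin r)) (x : Fin p) :
    blockPerm σ σ' (Fin.castAdd r x) = Fin.castAdd r (σ x) := by
  simp [blockPerm, Equiv.permCongr_apply, finSumFinEquiv_symm_apply_castAdd]

theorem blockPerm_natAdd (σ : Perm (Fin p)) (σ' : Perm (Fin r)) (y : Fin r) :
    blockPerm σ σ' (Fin.natAdd p y) = Fin.natAdd p (σ' y) := by
  simp [blockPerm, Equiv.permCongr_apply, finSumFinEquiv_symm_apply_natAdd]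

theorem sign_blockPerm (σ : Perm (Fin p)) (σ' : Perm (Fin r)) :
    Equiv.Perm.sign (blockPerm σ σ') = Equiv.Perm.sign σ * Equiv.Perm.sign σ' := by
  rw [blockPerm, Equiv.Perm.sign_permCongr, Equiv.Perm.sign_sumCongr]

/-- Leibniz formula with the permutation acting on the column index through its inverse -/
theorem det_eq_sum_symm (N : Matrix (Fin (p + r)) (Fin (p + r)) R) :
    N.det = ∑ ρ : Perm (Fin (p + r)), ((Equiv.Perm.sign ρ : ℤˣ) : ℤ) * ∏ d, N d (ρ.symm d) := by
  rw [← det_transpose, det_apply']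
  refine Fintype.sum_equiv (Equiv.inv _) _ _ fun σ => ?_
  simp only [Equiv.inv_apply, Equiv.Perm.sign_inv, transpose_apply]
  rfl

theorem sum_fixed_block (N : Matrix (Fin (p + r)) (Fin (p + r)) R) (σ : Perm (Fin p))
    (σ' : Perm (Fin r)) :
    ∑ π : Perm (Fin (p + r)), (((Equiv.Perm.sign π : ℤˣ) : ℤ) : R) *
      (((((Equiv.Perm.sign σ : ℤˣ) : ℤ) : R) *
        ∏ x, N (Fin.castAdd r (σ x)) (π.symm (Fin.castAdd r x))) *
       ((((Equiv.Perm.sign σ' : ℤˣ) : ℤ) : R) *
        ∏ y, N (Fin.natAdd p (σ' y)) (π.symm (Fin.natAdd p y)))) = N.det := by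
  rw [det_eq_sum_symm]
  refine Fintype.sum_equiv (Equiv.mulLeft (blockPerm σ σ')) _ _ fun π => ?_
  simp only [Equiv.coe_mulLeft, Equiv.Perm.sign_mul, sign_blockPerm, Units.val_mul, Int.cast_mul]
  have hprod : ∏ d, N d ((blockPerm σ σ' * π).symm d) =
      (∏ x, N (Fin.castAdd r (σ x)) (π.symm (Fin.castAdd r x))) *
        ∏ y, N (Fin.natAdd p (σ' y)) (π.symm (Fin.natAdd p y)) := by
    rw [← Equiv.prod_comp (blockPerm σ σ') (fun d => N d ((blockPerm σ σ' * π).symm d)),
      Fin.prod_univ_add]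
    congr 1
    · refine Finset.prod_congr rfl fun x _ => ?_
      rw [blockPerm_castAdd]
      congr 1
      rw [← blockPerm_castAdd σ σ' x]
      show (blockPerm σ σ' * π)⁻¹ (blockPerm σ σ' (Fin.castAdd r x)) = π⁻¹ (Fin.castAdd r x)
      simp
    · refine Finset.prod_congr rfl fun y _ => ?_
      rw [blockPerm_natAdd]
      congr 1
      rw [← blockPerm_natAdd σ σ' y]
      show (blockPerm σ σ' * π)⁻¹ (blockPerm σ σ' (Fin.natAdd p y)) = π⁻¹ (Fin.natAdd p y)
      simp
  rw [hprod]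
  ring

/-- the signed sum of products of complementary block minors over all column permutations -/
theorem sum_sign_blocks (N : Matrix (Fin (p + r)) (Fin (p + r)) R) :
    ∑ π : Perm (Fin (p + r)), (((Equiv.Perm.sign π : ℤˣ) : ℤ) : R) *
      (Matrix.of fun x y => N (Fin.castAdd r x) (π.symm (Fin.castAdd r y))).det *
      (Matrix.of fun x y => N (Fin.natAdd p x) (π.symm (Fin.natAdd p y))).det =
    ((p.factorial * r.factorial : ℕ) : R) * N.det := by
  have h1 : ∀ π : Perm (Fin (p + r)), (((Equiv.Perm.sign π : ℤˣ) : ℤ) : R) *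
      (Matrix.of fun x y => N (Fin.castAdd r x) (π.symm (Fin.castAdd r y))).det *
      (Matrix.of fun x y => N (Fin.natAdd p x) (π.symm (Fin.natAdd p y))).det =
      ∑ σ : Perm (Fin p), ∑ σ' : Perm (Fin r), (((Equiv.Perm.sign π : ℤˣ) : ℤ) : R) *
      (((((Equiv.Perm.sign σ : ℤˣ) : ℤ) : R) *
        ∏ x, N (Fin.castAdd r (σ x)) (π.symm (Fin.castAdd r x))) *
       ((((Equiv.Perm.sign σ' : ℤˣ) : ℤ) : R) *
        ∏ y, N (Fin.natAdd p (σ' y)) (π.symm (Fin.natAdd p y)))) := by
    intro π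
    rw [det_apply', det_apply', mul_assoc, Finset.sum_mul_sum, Finset.mul_sum]
    refine Finset.sum_congr rfl fun σ _ => ?_
    rw [Finset.mul_sum]
    rfl
  simp_rw [h1]
  rw [Finset.sum_comm]
  simp_rw [Finset.sum_comm (s := (Finset.univ : Finset (Perm (Fin (p + r)))))]
  simp_rw [sum_fixed_block]
  simp [Fintype.card_perm, Nat.cast_mul, mul_assoc]

end Groth.Agent.Helper5.BlockLaplace

namespace Groth.Agent.Helper5.BlockLaplace

variable {p r : ℕ}

/-- rows listed: first those of `A` (increasingly), then those of `B` (increasingly) -/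
def rowSel (A : Finset (Fin (p + r))) (hA : A.card = p) (B : Finset (Fin (p + r)))
    (hB : B.card = r) : Fin (p + r) → Fin (p + r) :=
  Fin.append (A.orderEmbOfFin hA) (B.orderEmbOfFin hB)

section

variable (A : Finset (Fin (p + r))) (hA : A.card = p) (B : Finset (Fin (p + r))) (hB : B.card = r)

theorem rowSel_castAdd (x : Fin p) :
    rowSel A hA B hB (Fin.castAdd r x) = A.orderEmbOfFin hA x := Fin.append_left _ _ _

theorem rowSel_natAdd (y : Fin r) :
    rowSel A hA B hB (Fin.natAdd p y) = B.orderEmbOfFin hB y := Fin.append_right _ _ _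

theorem rowSel_of_lt (i : Fin (p + r)) (hi : (i : ℕ) < p) :
    rowSel A hA B hB i = A.orderEmbOfFin hA ⟨i, hi⟩ := by
  have : i = Fin.castAdd r ⟨i, hi⟩ := Fin.ext rfl
  conv_lhs => rw [this]
  exact rowSel_castAdd A hA B hB _

theorem rowSel_of_ge (i : Fin (p + r)) (hi : p ≤ (i : ℕ)) :
    rowSel A hA B hB i = B.orderEmbOfFin hB ⟨i - p, by have := i.2; omega⟩ := by
  have : i = Fin.natAdd p ⟨i - p, by have := i.2; omega⟩ := Fin.ext (by simp; omega)
  conv_lhs => rw [this]
  exact rowSel_natAdd A hA B hB _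

/-- if `B` is not the complement of `A`, some row is repeated -/
theorem exists_rowSel_eq_of_ne (hne : B ≠ Aᶜ) :
    ∃ i j, i ≠ j ∧ rowSel A hA B hB i = rowSel A hA B hB j := by
  have hnd : ¬ Disjoint A B := by
    intro hd
    apply hne
    refine Finset.eq_of_subset_of_card_le ?_ ?_
    · intro z hz
      rw [Finset.mem_compl]
      exact fun hzA => Finset.disjoint_left.1 hd hzA hz
    · rw [Finset.card_compl, Fintype.card_fin, hA, hB]
      omega
  obtain ⟨z, hzA, hzB⟩ := Finset.not_disjoint_iff.1 hnd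
  have h1 : z ∈ Set.range (A.orderEmbOfFin hA) := by rw [Finset.range_orderEmbOfFin]; exact hzA
  have h2 : z ∈ Set.range (B.orderEmbOfFin hB) := by rw [Finset.range_orderEmbOfFin]; exact hzB
  obtain ⟨x, hx⟩ := h1
  obtain ⟨y, hy⟩ := h2
  refine ⟨Fin.castAdd r x, Fin.natAdd p y, ?_, ?_⟩
  · intro h
    have := congrArg Fin.val h
    simp only [Fin.val_castAdd, Fin.val_natAdd] at this
    have := x.2
    omega
  · rw [rowSel_castAdd, rowSel_natAdd, hx, hy]

end

section compl

variable (A : Finset (Fin (p + r))) (hA : A.card = p) (hB : (Aᶜ).card = r)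

theorem rowSel_mem_iff (i : Fin (p + r)) : rowSel A hA Aᶜ hB i ∈ A ↔ (i : ℕ) < p := by
  constructor
  · intro h
    by_contra hi
    rw [rowSel_of_ge A hA Aᶜ hB i (not_lt.1 hi)] at h
    have := Finset.orderEmbOfFin_mem Aᶜ hB ⟨i - p, by have := i.2; omega⟩
    exact (Finset.mem_compl.1 this) h
  · intro hi
    rw [rowSel_of_lt A hA Aᶜ hB i hi]
    exact Finset.orderEmbOfFin_mem A hA _

theorem rowSel_lt_of_lt {i j : Fin (p + r)} (hij : i < j)
    (h : ((i : ℕ) < p ∧ (j : ℕ) < p) ∨ (p ≤ (i : ℕ) ∧ p ≤ (j : ℕ))) :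
    rowSel A hA Aᶜ hB i < rowSel A hA Aᶜ hB j := by
  rcases h with ⟨hi, hj⟩ | ⟨hi, hj⟩
  · rw [rowSel_of_lt A hA Aᶜ hB i hi, rowSel_of_lt A hA Aᶜ hB j hj]
    exact (A.orderEmbOfFin hA).strictMono hij
  · rw [rowSel_of_ge A hA Aᶜ hB i hi, rowSel_of_ge A hA Aᶜ hB j hj]
    refine (Aᶜ.orderEmbOfFin hB).strictMono ?_
    show (⟨_, _⟩ : Fin r) < ⟨_, _⟩
    rw [Fin.mk_lt_mk]
    have : (i : ℕ) < j := hij
    omega

theorem rowSel_injective : Function.Injective (rowSel A hA Aᶜ hB) := by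
  intro i j h
  by_contra hne
  rcases lt_or_gt_of_ne hne with hij | hij
  · by_cases hi : (i : ℕ) < p <;> by_cases hj : (j : ℕ) < p
    · exact (rowSel_lt_of_lt A hA hB hij (Or.inl ⟨hi, hj⟩)).ne h
    · have h1 := (rowSel_mem_iff A hA hB i).2 hi
      rw [h] at h1
      exact hj ((rowSel_mem_iff A hA hB j).1 h1)
    · have h1 := (rowSel_mem_iff A hA hB j).2 hj
      rw [← h] at h1
      exact hi ((rowSel_mem_iff A hA hB i).1 h1)
    · exact (rowSel_lt_of_lt A hA hB hij (Or.inr ⟨not_lt.1 hi, not_lt.1 hj⟩)).ne h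
  · by_cases hi : (i : ℕ) < p <;> by_cases hj : (j : ℕ) < p
    · exact (rowSel_lt_of_lt A hA hB hij (Or.inl ⟨hj, hi⟩)).ne h.symm
    · have h1 := (rowSel_mem_iff A hA hB i).2 hi
      rw [h] at h1
      exact hj ((rowSel_mem_iff A hA hB j).1 h1)
    · have h1 := (rowSel_mem_iff A hA hB j).2 hj
      rw [← h] at h1
      exact hi ((rowSel_mem_iff A hA hB i).1 h1)
    · exact (rowSel_lt_of_lt A hA hB hij (Or.inr ⟨not_lt.1 hj, not_lt.1 hi⟩)).ne h.symm

/-- the row selection as a permutation -/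
noncomputable def rowPerm : Perm (Fin (p + r)) :=
  Equiv.ofBijective (rowSel A hA Aᶜ hB)
    (Finite.injective_iff_bijective.1 (rowSel_injective A hA hB))

theorem rowPerm_apply (i : Fin (p + r)) : rowPerm A hA hB i = rowSel A hA Aᶜ hB i := rfl

theorem sign_rowPerm :
    ((Equiv.Perm.sign (rowPerm A hA hB) : ℤˣ) : ℤ) =
      (-1) ^ ((A ×ˢ Aᶜ).filter (fun ab => ab.2 < ab.1)).card := by
  classical
  rw [Equiv.Perm.sign_eq_prod_prod_Ioi, Finset.prod_sigma', Finset.prod_ite, Finset.prod_const_one,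
    one_mul, Finset.prod_const, Units.val_pow_eq_pow_val, Units.val_neg, Units.val_one]
  congr 1
  refine Finset.card_nbij' (fun z => (rowPerm A hA hB z.1, rowPerm A hA hB z.2))
    (fun ab => ⟨(rowPerm A hA hB).symm ab.1, (rowPerm A hA hB).symm ab.2⟩) ?_ ?_ ?_ ?_
  · rintro ⟨i, j⟩ hz
    simp only [Finset.coe_filter, Finset.mem_sigma, Finset.mem_univ, Finset.mem_Ioi, true_and,
      Set.mem_ofPred_eq] at hz
    obtain ⟨hij, hnlt⟩ := hz
    simp only [Finset.coe_filter, Finset.mem_product, Finset.mem_compl, Set.mem_ofPred_eq,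
      rowPerm_apply]
    have hcase : (i : ℕ) < p ∧ p ≤ (j : ℕ) := by
      by_contra hc
      apply hnlt
      rw [rowPerm_apply, rowPerm_apply]
      refine rowSel_lt_of_lt A hA hB hij ?_
      have : (i : ℕ) < j := hij
      omega
    refine ⟨⟨(rowSel_mem_iff A hA hB i).2 hcase.1, fun h => ?_⟩, ?_⟩
    · have := (rowSel_mem_iff A hA hB j).1 h
      omega
    · rw [rowPerm_apply, rowPerm_apply] at hnlt
      exact lt_of_le_of_ne (not_lt.1 hnlt)
        (fun h => hij.ne' (rowSel_injective A hA hB h))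
  · rintro ⟨a, b⟩ hab
    simp only [Finset.coe_filter, Finset.mem_product, Finset.mem_compl, Set.mem_ofPred_eq] at hab
    obtain ⟨⟨ha, hb⟩, hlt⟩ := hab
    simp only [Finset.coe_filter, Finset.mem_sigma, Finset.mem_univ, Finset.mem_Ioi, true_and,
      Set.mem_ofPred_eq, Equiv.apply_symm_apply]
    have h1 : ((rowPerm A hA hB).symm a : ℕ) < p := by
      rw [← rowSel_mem_iff A hA hB, ← rowPerm_apply, Equiv.apply_symm_apply]; exact ha
    have h2 : ¬ ((rowPerm A hA hB).symm b : ℕ) < p := by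
      rw [← rowSel_mem_iff A hA hB, ← rowPerm_apply, Equiv.apply_symm_apply]; exact hb
    refine ⟨?_, not_lt.2 hlt.le⟩
    show ((rowPerm A hA hB).symm a : ℕ) < ((rowPerm A hA hB).symm b : ℕ)
    omega
  · rintro ⟨i, j⟩ _
    simp
  · rintro ⟨a, b⟩ _
    simp

end compl

end Groth.Agent.Helper5.BlockLaplace
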