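import Mathlib

/-!
# A Cauchy–Binet type identity (helper5)

For `A : Matrix ι κ R` and `B : Matrix κ ι R`,
`∑ λ : ι → κ, det (A.submatrix id λ) * det (B.submatrix λ id) = (card ι)! * det (A * B)`.
-/

open Finset Matrix

namespace Groth.Agent.Helper5.CauchyBinet

variable {ι κ R : Type*} [Fintype ι] [DecidableEq ι] [Fintype κ] [CommRing R]

/-- one-sided expansion of `det (A * B)` -/
theorem det_mul_eq_sum (A : Matrix ι κ R) (B : Matrix κ ι R) :
    (A * B).det = ∑ l : ι → κ, (A.submatrix id l).det * ∏ i, B (l i) i := by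
  rw [det_apply']
  have h1 : ∀ σ : Equiv.Perm ι, ∏ i, (A * B) (σ i) i =
      ∑ l : ι → κ, ∏ i, (A (σ i) (l i) * B (l i) i) := by
    intro σ
    simp only [Matrix.mul_apply]
    rw [Fintype.prod_sum]
  simp_rw [h1, Finset.mul_sum]
  rw [Finset.sum_comm]
  refine Finset.sum_congr rfl fun l _ => ?_
  rw [det_apply', Finset.sum_mul]
  refine Finset.sum_congr rfl fun σ _ => ?_
  rw [Finset.prod_mul_distrib]
  simp only [submatrix_apply, id_eq]
  ring

theorem det_mul_eq_sum_perm (A : Matrix ι κ R) (B : Matrix κ ι R) (τ : Equiv.Perm ι) :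
    (A * B).det = ∑ l : ι → κ, (A.submatrix id l).det *
      ((((Equiv.Perm.sign τ : ℤˣ) : ℤ) : R) * ∏ i, B (l (τ i)) i) := by
  rw [det_mul_eq_sum]
  refine Fintype.sum_equiv (Equiv.arrowCongr τ (Equiv.refl κ)) _ _ fun l => ?_
  have h1 : (Equiv.arrowCongr τ (Equiv.refl κ)) l = l ∘ τ.symm := by
    funext i
    simp [Equiv.arrowCongr]
  rw [h1]
  have h2 : A.submatrix id (l ∘ τ.symm) = (A.submatrix id l).submatrix id τ.symm := by
    ext i j
    simp
  rw [h2, det_permute']
  have h3 : ∏ i, B ((l ∘ τ.symm) (τ i)) i = ∏ i, B (l i) i := by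
    refine Finset.prod_congr rfl fun i _ => ?_
    simp
  rw [h3, Equiv.Perm.sign_symm]
  rcases Int.units_eq_one_or (Equiv.Perm.sign τ) with h | h <;> simp [h]

/-- the symmetrised Cauchy–Binet identity -/
theorem sum_det_mul_det (A : Matrix ι κ R) (B : Matrix κ ι R) :
    ∑ l : ι → κ, (A.submatrix id l).det * (B.submatrix l id).det =
      ((Fintype.card ι).factorial : R) * (A * B).det := by
  have h1 : ∀ l : ι → κ, (B.submatrix l id).det =
      ∑ τ : Equiv.Perm ι, (((Equiv.Perm.sign τ : ℤˣ) : ℤ) : R) * ∏ i, B (l (τ i)) i := by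
    intro l
    rw [det_apply']
    rfl
  simp_rw [h1, Finset.mul_sum]
  rw [Finset.sum_comm]
  have h2 : ∀ τ : Equiv.Perm ι, ∑ l : ι → κ, (A.submatrix id l).det *
      ((((Equiv.Perm.sign τ : ℤˣ) : ℤ) : R) * ∏ i, B (l (τ i)) i) = (A * B).det :=
    fun τ => (det_mul_eq_sum_perm A B τ).symm
  simp_rw [h2]
  rw [Finset.sum_const, Finset.card_univ, Fintype.card_perm, nsmul_eq_mul]

end Groth.Agent.Helper5.CauchyBinet
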