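import Mathlib

/-!
# Index identities for sublattices (helper5)
-/

open Finset Function

namespace Groth.Agent.Helper5.LatticeIndex

theorem card_quot_comap_eq_relIndex {M : Type*} [AddCommGroup M] (N K : Submodule ℤ M) :
    Nat.card (K ⧸ N.comap K.subtype) = N.toAddSubgroup.relIndex K.toAddSubgroup := rfl

/-- the basic index identity -/
theorem index_identity {L : Type*} [AddCommGroup L] (S : L →+ ℤ) (D A : L →+ L)
    (hD : Injective D) (hS : Surjective S) (hSDA : ∀ x, S (D (A x)) = 0) :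
    A.range.relIndex (S.comp D).ker * D.range.index =
      (S.comp D).range.index * (D.comp A).range.relIndex S.ker := by
  set K := S.ker with hK
  set K' := (S.comp D).ker with hK'
  set I := A.range with hI
  set J := (D.comp A).range with hJ
  set DL := D.range with hDL
  have h1 : K'.map D = K ⊓ DL := by
    ext x
    simp only [AddSubgroup.mem_map, AddSubgroup.mem_inf, hK', hK, hDL, AddMonoidHom.mem_ker,
      AddMonoidHom.comp_apply, AddMonoidHom.mem_range]
    constructor
    · rintro ⟨y, hy, rfl⟩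
      exact ⟨hy, y, rfl⟩
    · rintro ⟨hx, y, rfl⟩
      exact ⟨y, hx, rfl⟩
  have h2 : I.map D = J := by
    rw [hI, hJ, AddMonoidHom.map_range]
  have h3 : J.relIndex (K ⊓ DL) = I.relIndex K' := by
    rw [← h1, ← h2, AddSubgroup.relIndex_map_map_of_injective _ _ hD]
  have h4 : J ≤ K ⊓ DL := by
    rintro x ⟨y, rfl⟩
    simp only [AddSubgroup.mem_inf, hK, hDL, AddMonoidHom.mem_ker, AddMonoidHom.comp_apply,
      AddMonoidHom.mem_range]
    exact ⟨hSDA y, A y, rfl⟩
  have h5 : J.relIndex (K ⊓ DL) * (K ⊓ DL).relIndex K = J.relIndex K :=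
    AddSubgroup.relIndex_mul_relIndex _ _ _ h4 inf_le_left
  have h6 : (K ⊓ DL).relIndex K = DL.relIndex K := by
    rw [inf_comm, AddSubgroup.inf_relIndex_right]
  have h7 : DL.relIndex (K ⊔ DL) = DL.relIndex K := AddSubgroup.relIndex_sup_right K DL
  have h8 : DL.relIndex (K ⊔ DL) * (K ⊔ DL).index = DL.index :=
    AddSubgroup.relIndex_mul_index le_sup_right
  have h9 : (K ⊔ DL).index = (S.comp D).range.index := by
    have : K ⊔ DL = ((S.comp D).range).comap S := by
      rw [← AddMonoidHom.map_range, AddSubgroup.comap_map_eq, sup_comm]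
    rw [this, AddSubgroup.index_comap_of_surjective _ hS]
  rw [← h5, h3, h6, ← h7, ← h8, h9]
  ring

section Concrete

variable {n : ℕ}

/-- the sum-of-coordinates map -/
def sumMap (n : ℕ) : (Fin n → ℤ) →ₗ[ℤ] ℤ := ∑ i : Fin n, (LinearMap.proj i : (Fin n → ℤ) →ₗ[ℤ] ℤ)

theorem sumMap_apply (x : Fin n → ℤ) : sumMap n x = ∑ i, x i := by
  simp [sumMap, LinearMap.sum_apply]

theorem sumMap_surjective (hn : 0 < n) : Surjective (sumMap n) := by
  intro c
  refine ⟨Pi.single ⟨0, hn⟩ c, ?_⟩
  rw [sumMap_apply, Finset.sum_pi_single']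
  simp

theorem diag_apply (δ : Fin n → ℤ) (x : Fin n → ℤ) (i : Fin n) :
    Matrix.mulVecLin (Matrix.diagonal δ) x i = δ i * x i := by
  simp [Matrix.mulVec_diagonal]

theorem diag_injective (δ : Fin n → ℤ) (hδ : ∀ i, δ i ≠ 0) :
    Injective (Matrix.mulVecLin (Matrix.diagonal δ)) := by
  intro x y hxy
  funext i
  have := congrFun hxy i
  rw [diag_apply, diag_apply] at this
  exact mul_left_cancel₀ (hδ i) this

theorem index_range_diag (δ : Fin n → ℤ) (hδ : ∀ i, δ i ≠ 0) :
    (LinearMap.range (Matrix.mulVecLin (Matrix.diagonal δ))).toAddSubgroup.index =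
      (∏ i, δ i).natAbs := by
  set D := Matrix.mulVecLin (Matrix.diagonal δ) with hD
  have hinj := diag_injective δ hδ
  let e : (Fin n → ℤ) ≃ₗ[ℤ] LinearMap.range D := LinearEquiv.ofInjective D hinj
  have h := Submodule.natAbs_det_equiv (LinearMap.range D) e.toAddEquiv
  have h2 : (LinearMap.range D).subtype ∘ₗ
      AddMonoidHom.toIntLinearMap ((e.toAddEquiv : (Fin n → ℤ) ≃+ LinearMap.range D) :
        (Fin n → ℤ) →+ LinearMap.range D) = D := by
    ext x i
    rfl
  rw [h2, hD, ← Matrix.toLin'_apply', LinearMap.det_toLin', Matrix.det_diagonal] at h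
  rw [h]
  rfl

theorem range_sum_diag (δ : Fin n → ℤ) :
    ((sumMap n ∘ₗ Matrix.mulVecLin (Matrix.diagonal δ)).toAddMonoidHom).range =
      AddSubgroup.zmultiples (Finset.univ.gcd δ) := by
  apply le_antisymm
  · rintro y ⟨x, rfl⟩
    rw [Int.mem_zmultiples_iff]
    simp only [LinearMap.toAddMonoidHom_coe, LinearMap.comp_apply]
    rw [sumMap_apply]
    refine Finset.dvd_sum fun i _ => ?_
    rw [diag_apply]
    exact Dvd.dvd.mul_right (Finset.gcd_dvd (Finset.mem_univ i)) _
  · apply AddSubgroup.zmultiples_le_of_mem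
    obtain ⟨g, hg⟩ := Finset.gcd_eq_sum_mul Finset.univ δ
    refine ⟨g, ?_⟩
    simp only [LinearMap.toAddMonoidHom_coe, LinearMap.comp_apply]
    rw [sumMap_apply, hg]
    refine Finset.sum_congr rfl fun i _ => ?_
    rw [diag_apply]

/-- `#(ker(S D)/im A) · |det D| = d · #(ker S/im(D A))` -/
theorem card_identity (hn : 0 < n) (δ : Fin n → ℤ) (hδ : ∀ i, δ i ≠ 0)
    (A : (Fin n → ℤ) →ₗ[ℤ] (Fin n → ℤ))
    (hSDA : sumMap n ∘ₗ Matrix.mulVecLin (Matrix.diagonal δ) ∘ₗ A = 0) :
    (Nat.card (LinearMap.ker (sumMap n ∘ₗ Matrix.mulVecLin (Matrix.diagonal δ)) ⧸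
      (LinearMap.range A).comap
        (LinearMap.ker (sumMap n ∘ₗ Matrix.mulVecLin (Matrix.diagonal δ))).subtype) : ℤ) *
      |∏ i, δ i| =
    (Finset.univ.gcd δ) * Nat.card (LinearMap.ker (sumMap n) ⧸
      (LinearMap.range (Matrix.mulVecLin (Matrix.diagonal δ) ∘ₗ A)).comap
        (LinearMap.ker (sumMap n)).subtype) := by
  rw [card_quot_comap_eq_relIndex, card_quot_comap_eq_relIndex]
  have key := index_identity (sumMap n).toAddMonoidHom
    (Matrix.mulVecLin (Matrix.diagonal δ)).toAddMonoidHom A.toAddMonoidHom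
    (diag_injective δ hδ) (sumMap_surjective hn)
    (fun x => by
      have := LinearMap.congr_fun hSDA x
      simpa using this)
  have e1 : (Matrix.mulVecLin (Matrix.diagonal δ)).toAddMonoidHom.range.index =
      (∏ i, δ i).natAbs := index_range_diag δ hδ
  have e2 : ((sumMap n).toAddMonoidHom.comp
      (Matrix.mulVecLin (Matrix.diagonal δ)).toAddMonoidHom).range.index =
      (Finset.univ.gcd δ).natAbs := by
    have := range_sum_diag δ
    rw [show ((sumMap n).toAddMonoidHom.comp
      (Matrix.mulVecLin (Matrix.diagonal δ)).toAddMonoidHom) =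
      (sumMap n ∘ₗ Matrix.mulVecLin (Matrix.diagonal δ)).toAddMonoidHom from rfl, this,
      Int.index_zmultiples]
  rw [e1, e2] at key
  have hg : ((Finset.univ.gcd δ).natAbs : ℤ) = Finset.univ.gcd δ := by
    rw [Int.natAbs_of_nonneg]
    have := Finset.normalize_gcd (s := (Finset.univ : Finset (Fin n))) (f := δ)
    rw [← this]
    exact Int.nonneg_of_normalize_eq_self (normalize_idem _)
  have := congrArg (fun x : ℕ => (x : ℤ)) key
  simp only [Nat.cast_mul] at this
  rw [hg, Int.natCast_natAbs] at this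
  exact this


/-- generator of the kernel of a corank-one integer matrix -/
theorem exists_ker_generator (hn : 0 < n) (A : Matrix (Fin n) (Fin n) ℤ) (hA : A.rank = n - 1) :
    ∃ w : Fin n → ℤ, w ≠ 0 ∧ (∀ x, Matrix.mulVecLin A x = 0 ↔ ∃ t : ℤ, x = t • w) ∧
      Finset.univ.gcd w = 1 := by
  set f := Matrix.mulVecLin A with hf
  have hfr : Module.finrank ℤ (LinearMap.ker f) = 1 := by
    have h1 := (LinearMap.ker f).finrank_quotient_add_finrank
    rw [f.quotKerEquivRange.finrank_eq] at h1
    have h2 : Module.finrank ℤ (LinearMap.range f) = n - 1 := hA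
    rw [h2, Module.finrank_pi, Fintype.card_fin] at h1
    omega
  let b : Module.Basis (Fin 1) ℤ (LinearMap.ker f) := Module.basisUnique (Fin 1) hfr
  set w : Fin n → ℤ := (b 0 : Fin n → ℤ) with hw
  have hwker : f w = 0 := (b 0).2
  have hw0 : w ≠ 0 := by
    intro h
    have : b 0 = 0 := Subtype.ext h
    exact b.ne_zero 0 this
  have hker : ∀ x, f x = 0 ↔ ∃ t : ℤ, x = t • w := by
    intro x
    constructor
    · intro hx
      have hx' : x ∈ LinearMap.ker f := hx
      refine ⟨b.repr ⟨x, hx'⟩ 0, ?_⟩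
      have := b.sum_repr ⟨x, hx'⟩
      rw [Fin.sum_univ_one] at this
      have h2 := congrArg (Subtype.val) this
      simp only [Submodule.coe_smul] at h2
      exact h2.symm
    · rintro ⟨t, rfl⟩
      rw [map_smul, hwker, smul_zero]
  refine ⟨w, hw0, hker, ?_⟩
  set g := Finset.univ.gcd w with hg
  have hg0 : g ≠ 0 := by
    intro h
    apply hw0
    funext i
    exact (Finset.gcd_eq_zero_iff.1 h) i (Finset.mem_univ i)
  have hdvd : ∀ i, g ∣ w i := fun i => Finset.gcd_dvd (Finset.mem_univ i)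
  choose w' hw' using hdvd
  have hww' : w = g • w' := by
    funext i
    rw [Pi.smul_apply, smul_eq_mul, ← hw' i]
  have hw'ker : f w' = 0 := by
    have : g • f w' = 0 := by rw [← map_smul, ← hww', hwker]
    rcases smul_eq_zero.1 this with h | h
    · exact absurd h hg0
    · exact h
  obtain ⟨t, ht⟩ := (hker w').1 hw'ker
  have h1 : (g * t - 1) • w = 0 := by
    rw [sub_smul, one_smul, mul_smul, ← ht, ← hww', sub_self]
  rcases smul_eq_zero.1 h1 with h | h
  · have hgt : g * t = 1 := by linarith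
    have hunit : IsUnit g := IsUnit.of_mul_eq_one t hgt
    have hnorm : normalize g = g := by rw [hg]; exact Finset.normalize_gcd
    rw [← hnorm]
    exact normalize_eq_one.2 hunit
  · exact absurd h hw0

/-- the index of `D' L ∩ ker A` in `ker A` is the gcd of the diagonal entries -/
theorem relIndex_range_diag_ker (hn : 0 < n) (δ' : Fin n → ℤ) (hδ' : ∀ i, δ' i ≠ 0)
    (A : Matrix (Fin n) (Fin n) ℤ) (hA : A.rank = n - 1) (hAδ' : Matrix.mulVecLin A δ' = 0) :
    (Matrix.mulVecLin (Matrix.diagonal δ')).toAddMonoidHom.range.relIndex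
      (Matrix.mulVecLin A).toAddMonoidHom.ker = (Finset.univ.gcd δ').natAbs := by
  obtain ⟨w, hw0, hker, hgcd⟩ := exists_ker_generator hn A hA
  obtain ⟨c, hc⟩ := (hker δ').1 hAδ'
  have hci : ∀ i, δ' i = c * w i := fun i => by
    have := congrFun hc i
    simpa using this
  have hwi : ∀ i, w i ≠ 0 := by
    intro i h
    apply hδ' i
    rw [hci, h, mul_zero]
  have hc0 : c ≠ 0 := by
    intro h
    have i0 : Fin n := ⟨0, hn⟩
    apply hδ' i0
    rw [hci, h, zero_mul]
  let φ : ℤ →+ (Fin n → ℤ) := (LinearMap.toSpanSingleton ℤ (Fin n → ℤ) w).toAddMonoidHom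
  have hφ : ∀ t : ℤ, φ t = t • w := fun t => rfl
  have hrange : φ.range = (Matrix.mulVecLin A).toAddMonoidHom.ker := by
    ext x
    simp only [AddMonoidHom.mem_range, AddMonoidHom.mem_ker, LinearMap.toAddMonoidHom_coe]
    rw [hker]
    constructor
    · rintro ⟨t, rfl⟩
      exact ⟨t, hφ t⟩
    · rintro ⟨t, rfl⟩
      exact ⟨t, hφ t⟩
  have hcomap : (Matrix.mulVecLin (Matrix.diagonal δ')).toAddMonoidHom.range.comap φ =
      AddSubgroup.zmultiples c := by
    ext t
    simp only [AddSubgroup.mem_comap, AddMonoidHom.mem_range, LinearMap.toAddMonoidHom_coe,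
      Int.mem_zmultiples_iff]
    rw [hφ]
    constructor
    · rintro ⟨y, hy⟩
      have i0 : Fin n := ⟨0, hn⟩
      have := congrFun hy i0
      rw [diag_apply, Pi.smul_apply, smul_eq_mul, hci] at this
      have h2 : w i0 * (c * y i0) = w i0 * t := by linear_combination this
      exact ⟨y i0, (mul_left_cancel₀ (hwi i0) h2).symm⟩
    · rintro ⟨s, rfl⟩
      refine ⟨fun _ => s, ?_⟩
      funext i
      rw [diag_apply, Pi.smul_apply, smul_eq_mul, hci]
      ring
  rw [← hrange, ← AddSubgroup.index_comap, hcomap, Int.index_zmultiples]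
  have : Finset.univ.gcd δ' = normalize c := by
    have h1 : δ' = fun i => c * w i := funext hci
    rw [h1, Finset.gcd_mul_left, hgcd, mul_one]
  rw [this]
  rcases le_total 0 c with h | h
  · rw [Int.normalize_of_nonneg h]
  · rw [Int.normalize_of_nonpos h, Int.natAbs_neg]


/-- `#(ker(S D)/im A) · |det D| · |det D'| = d d' · #(ker S/im(D A D'))` -/
theorem card_identity' (hn : 0 < n) (δ δ' : Fin n → ℤ) (hδ : ∀ i, δ i ≠ 0)
    (hδ' : ∀ i, δ' i ≠ 0) (A : Matrix (Fin n) (Fin n) ℤ) (hA : A.rank = n - 1)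
    (hSDA : sumMap n ∘ₗ Matrix.mulVecLin (Matrix.diagonal δ) ∘ₗ Matrix.mulVecLin A = 0)
    (hAδ' : Matrix.mulVecLin A δ' = 0) :
    (Nat.card (LinearMap.ker (sumMap n ∘ₗ Matrix.mulVecLin (Matrix.diagonal δ)) ⧸
      (LinearMap.range (Matrix.mulVecLin A)).comap
        (LinearMap.ker (sumMap n ∘ₗ Matrix.mulVecLin (Matrix.diagonal δ))).subtype) : ℤ) *
      |∏ i, δ i| * |∏ i, δ' i| =
    (Finset.univ.gcd δ) * (Finset.univ.gcd δ') * Nat.card (LinearMap.ker (sumMap n) ⧸
      (LinearMap.range (Matrix.mulVecLin (Matrix.diagonal δ) ∘ₗ Matrix.mulVecLin A ∘ₗ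
        Matrix.mulVecLin (Matrix.diagonal δ'))).comap (LinearMap.ker (sumMap n)).subtype) := by
  have h1 := card_identity hn δ hδ (Matrix.mulVecLin A) hSDA
  rw [h1]
  rw [card_quot_comap_eq_relIndex, card_quot_comap_eq_relIndex]
  set D := Matrix.mulVecLin (Matrix.diagonal δ) with hD
  set D' := Matrix.mulVecLin (Matrix.diagonal δ') with hD'
  set Al := Matrix.mulVecLin A with hAl
  set K := (LinearMap.ker (sumMap n)).toAddSubgroup with hK
  set f : (Fin n → ℤ) →+ (Fin n → ℤ) := (D ∘ₗ Al).toAddMonoidHom with hf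
  have hJ : (LinearMap.range (D ∘ₗ Al)).toAddSubgroup = f.range := rfl
  have hJ' : (LinearMap.range (D ∘ₗ Al ∘ₗ D')).toAddSubgroup = D'.toAddMonoidHom.range.map f := by
    rw [AddMonoidHom.map_range]
    rfl
  have hle1 : D'.toAddMonoidHom.range.map f ≤ f.range := by
    rintro x ⟨y, _, rfl⟩
    exact ⟨y, rfl⟩
  have hle2 : f.range ≤ K := by
    rintro x ⟨y, rfl⟩
    have := LinearMap.congr_fun hSDA y
    exact this
  have h2 : (D'.toAddMonoidHom.range.map f).relIndex f.range * f.range.relIndex K =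
      (D'.toAddMonoidHom.range.map f).relIndex K :=
    AddSubgroup.relIndex_mul_relIndex _ _ _ hle1 hle2
  have hkerf : f.ker = Al.toAddMonoidHom.ker := by
    ext x
    simp only [AddMonoidHom.mem_ker, hf, LinearMap.toAddMonoidHom_coe, LinearMap.comp_apply]
    constructor
    · intro h
      exact diag_injective δ hδ (by rw [h, map_zero])
    · intro h
      rw [h, map_zero]
  have h3 : (D'.toAddMonoidHom.range.map f).relIndex f.range =
      (D'.toAddMonoidHom.range ⊔ Al.toAddMonoidHom.ker).index := by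
    have := AddSubgroup.relIndex_map_map f D'.toAddMonoidHom.range ⊤
    rw [← AddMonoidHom.range_eq_map, top_sup_eq, AddSubgroup.relIndex_top_right, hkerf] at this
    exact this
  have h4 : D'.toAddMonoidHom.range.relIndex (D'.toAddMonoidHom.range ⊔ Al.toAddMonoidHom.ker) *
      (D'.toAddMonoidHom.range ⊔ Al.toAddMonoidHom.ker).index = D'.toAddMonoidHom.range.index :=
    AddSubgroup.relIndex_mul_index le_sup_left
  have h5 : D'.toAddMonoidHom.range.relIndex (D'.toAddMonoidHom.range ⊔ Al.toAddMonoidHom.ker) =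
      D'.toAddMonoidHom.range.relIndex Al.toAddMonoidHom.ker :=
    AddSubgroup.relIndex_sup_left _ _
  have h6 := relIndex_range_diag_ker hn δ' hδ' A hA hAδ'
  have h7 : D'.toAddMonoidHom.range.index = (∏ i, δ' i).natAbs := index_range_diag δ' hδ'
  rw [← hD', ← hAl] at h6
  rw [h5, h6, h7, ← h3] at h4
  rw [hJ, hJ', ← h2]
  have hg : ((Finset.univ.gcd δ').natAbs : ℤ) = Finset.univ.gcd δ' := by
    rw [Int.natAbs_of_nonneg]
    have := Finset.normalize_gcd (s := (Finset.univ : Finset (Fin n))) (f := δ')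
    rw [← this]
    exact Int.nonneg_of_normalize_eq_self (normalize_idem _)
  have h8 := congrArg (fun x : ℕ => (x : ℤ)) h4
  simp only [Nat.cast_mul] at h8
  rw [hg, Int.natCast_natAbs] at h8
  rw [← h8]
  push_cast
  ring

end Concrete

end Groth.Agent.Helper5.LatticeIndex
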