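import Mathlib

/-!
# Numerical criterion for pairs `(H, q)` (helper5)

Linear algebra behind the Hilbert–Mumford-type criterion for a bilinear map `q : H → H → W`.
-/

open Finset

namespace Groth.Agent.Helper5.NumCrit

/-! ### clamp identities -/

theorem clamp1 (m : ℤ) (T : ℕ) :
    ∑ t ∈ Finset.range T, ((if m ≤ (t : ℤ) then (0 : ℤ) else 1) -
      (if m ≤ -(t : ℤ) - 1 then 1 else 0)) = max (-(T : ℤ)) (min m T) := by
  induction T with
  | zero => simp
  | succ T ih =>
    rw [Finset.sum_range_succ, ih]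
    simp only [min_def, max_def]
    push_cast
    split_ifs <;> omega

theorem clamp2 (m : ℤ) (T : ℕ) :
    (if m ≤ 0 then (0 : ℤ) else 1) + ∑ t ∈ Finset.range T,
      ((if m ≤ (t : ℤ) + 1 then (0 : ℤ) else 1) - (if m ≤ -((t : ℤ) + 1) then 1 else 0)) =
      max (-(T : ℤ)) (min m (T + 1)) := by
  induction T with
  | zero =>
    simp only [Finset.range_zero, Finset.sum_empty, add_zero, Nat.cast_zero, neg_zero, zero_add,
      min_def, max_def]
    split_ifs <;> omega
  | succ T ih =>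
    rw [Finset.sum_range_succ, ← add_assoc, ih]
    simp only [min_def, max_def]
    push_cast
    split_ifs <;> omega

/-! ### weighted sums in terms of the counting function -/

section Count

variable {ι : Type*} [Fintype ι] (m : ι → ℤ) (d : ι → ℕ)

/-- total dimension of the pieces of weight at most `t` -/
def fN (t : ℤ) : ℕ := ∑ i, if m i ≤ t then d i else 0

theorem fN_mono {t t' : ℤ} (h : t ≤ t') : fN m d t ≤ fN m d t' := by
  unfold fN
  refine Finset.sum_le_sum fun i _ => ?_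
  split_ifs with h1 h2 h2
  · exact le_rfl
  · exact absurd (h1.trans h) h2
  · exact Nat.zero_le _
  · exact le_rfl

theorem fN_le (t : ℤ) : fN m d t ≤ ∑ i, d i := by
  unfold fN
  refine Finset.sum_le_sum fun i _ => ?_
  split_ifs
  · exact le_rfl
  · exact Nat.zero_le _

theorem term_eq (t t' : ℤ) :
    ((∑ i, d i : ℕ) : ℤ) - (fN m d t : ℤ) - (fN m d t' : ℤ) =
      ∑ i, (d i : ℤ) * ((if m i ≤ t then (0 : ℤ) else 1) - (if m i ≤ t' then 1 else 0)) := by
  unfold fN
  push_cast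
  rw [← Finset.sum_sub_distrib, ← Finset.sum_sub_distrib]
  refine Finset.sum_congr rfl fun i _ => ?_
  split_ifs <;> ring

theorem sum_eq1 (T : ℕ) (hT : ∀ i, -(T : ℤ) ≤ m i ∧ m i ≤ T) :
    ∑ i, m i * (d i : ℤ) = ∑ t ∈ Finset.range T,
      (((∑ i, d i : ℕ) : ℤ) - (fN m d t : ℤ) - (fN m d (-(t : ℤ) - 1) : ℤ)) := by
  simp_rw [term_eq]
  rw [Finset.sum_comm]
  refine Finset.sum_congr rfl fun i _ => ?_
  rw [← Finset.mul_sum, clamp1, mul_comm]
  congr 1
  have := hT i
  simp only [min_def, max_def]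
  split_ifs <;> omega

theorem sum_eq2 (T : ℕ) (hT : ∀ i, -(T : ℤ) ≤ m i ∧ m i ≤ T + 1) :
    ∑ i, m i * (d i : ℤ) = (((∑ i, d i : ℕ) : ℤ) - (fN m d 0 : ℤ)) + ∑ t ∈ Finset.range T,
      (((∑ i, d i : ℕ) : ℤ) - (fN m d ((t : ℤ) + 1) : ℤ) - (fN m d (-((t : ℤ) + 1)) : ℤ)) := by
  simp_rw [term_eq]
  have h0 : ((∑ i, d i : ℕ) : ℤ) - (fN m d 0 : ℤ) =
      ∑ i, (d i : ℤ) * (if m i ≤ 0 then (0 : ℤ) else 1) := by
    unfold fN
    push_cast
    rw [← Finset.sum_sub_distrib]
    refine Finset.sum_congr rfl fun i _ => ?_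
    split_ifs <;> ring
  rw [h0, Finset.sum_comm, ← Finset.sum_add_distrib]
  refine Finset.sum_congr rfl fun i _ => ?_
  rw [← Finset.mul_sum, ← mul_add, clamp2, mul_comm]
  congr 1
  have := hT i
  simp only [min_def, max_def]
  split_ifs <;> omega

theorem le_fN [DecidableEq ι] {t : ℤ} {i : ι} (hi : m i ≤ t) : d i ≤ fN m d t := by
  unfold fN
  have := Finset.single_le_sum (f := fun j => if m j ≤ t then d j else 0)
    (fun _ _ => Nat.zero_le _) (Finset.mem_univ i)
  simpa [hi] using this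

theorem fN_add_le [DecidableEq ι] {t : ℤ} {i : ι} (hi : t < m i) :
    fN m d t + d i ≤ ∑ j, d j := by
  unfold fN
  have h1 : d i = ∑ j, if j = i then d j else 0 := by simp
  rw [h1, ← Finset.sum_add_distrib]
  refine Finset.sum_le_sum fun j _ => ?_
  split_ifs with h2 h3 h3
  · subst h3; omega
  · simp
  · simp
  · simp

/-- a bound for all the weights -/
theorem exists_bound : ∃ T : ℕ, ∀ i, -(T : ℤ) ≤ m i ∧ m i ≤ T := by
  refine ⟨∑ i, (m i).natAbs, fun i => ?_⟩
  have h : (m i).natAbs ≤ ∑ i, (m i).natAbs :=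
    Finset.single_le_sum (f := fun i => (m i).natAbs) (fun _ _ => Nat.zero_le _) (Finset.mem_univ i)
  have h' : ((m i).natAbs : ℤ) ≤ ((∑ i, (m i).natAbs : ℕ) : ℤ) := by exact_mod_cast h
  constructor <;> omega

end Count

/-! ### linear algebra -/

section Lin

open Module

variable {K : Type*} [Field K] {H W : Type*} [AddCommGroup H] [Module K H]
  [AddCommGroup W] [Module K W] (q : H →ₗ[K] H →ₗ[K] W)

/-- the orthogonal of `V` -/
def perp (V : Submodule K H) : Submodule K H := ⨅ (y : H) (_ : y ∈ V), LinearMap.ker (q.flip y)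

theorem mem_perp {V : Submodule K H} {x : H} : x ∈ perp q V ↔ ∀ y ∈ V, q x y = 0 := by
  simp [perp, Submodule.mem_iInf]

theorem span_orth {S T : Set H} (h : ∀ x ∈ S, ∀ y ∈ T, q x y = 0) :
    ∀ x ∈ Submodule.span K S, ∀ y ∈ Submodule.span K T, q x y = 0 := by
  intro x hx y hy
  induction hx using Submodule.span_induction with
  | mem x hx =>
    induction hy using Submodule.span_induction with
    | mem y hy => exact h x hx y hy
    | zero => simp
    | add y y' _ _ h1 h2 => rw [map_add, h1, h2, add_zero]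
    | smul a y _ h1 => rw [map_smul, h1, smul_zero]
  | zero => simp
  | add x x' _ _ h1 h2 => rw [map_add, LinearMap.add_apply, h1, h2, add_zero]
  | smul a x _ h1 => rw [map_smul, LinearMap.smul_apply, h1, smul_zero]

variable [FiniteDimensional K H] {ι : Type} [Fintype ι] [DecidableEq ι]
  (Hs : ι → Submodule K H) (hint : DirectSum.IsInternal Hs) (m : ι → ℤ)

/-- basis of `H` adapted to the decomposition -/
noncomputable def adaptedBasis : Basis (Σ i, Fin (finrank K (Hs i))) K H :=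
  hint.collectedBasis (fun i => Module.finBasis K (Hs i))

omit [Fintype ι] in
theorem adaptedBasis_mem (x : Σ i, Fin (finrank K (Hs i))) :
    adaptedBasis Hs hint x ∈ Hs x.1 :=
  hint.collectedBasis_mem _ x

/-- span of the pieces of weight at most `t` -/
noncomputable def U (t : ℤ) : Submodule K H :=
  Submodule.span K (Set.range
    (fun x : {x : Σ i, Fin (finrank K (Hs i)) // m x.1 ≤ t} => adaptedBasis Hs hint x))

include hint in
theorem finrank_H : finrank K H = ∑ i, finrank K (Hs i) := by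
  rw [Module.finrank_eq_card_basis (adaptedBasis Hs hint), Fintype.card_sigma]
  simp

theorem finrank_U (t : ℤ) :
    finrank K (U Hs hint m t) = fN m (fun i => finrank K (Hs i)) t := by
  have hli : LinearIndependent K
      (fun x : {x : Σ i, Fin (finrank K (Hs i)) // m x.1 ≤ t} => adaptedBasis Hs hint x) :=
    (adaptedBasis Hs hint).linearIndependent.comp _ Subtype.val_injective
  rw [U, finrank_span_eq_card hli, Fintype.card_subtype, Finset.card_filter,
    ← Finset.univ_sigma_univ, Finset.sum_sigma, fN]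
  refine Finset.sum_congr rfl fun i _ => ?_
  split_ifs <;> simp

omit [Fintype ι] in
theorem U_orth {t t' : ℤ}
    (h : ∀ i j, m i ≤ t → m j ≤ t' → ∀ x ∈ Hs i, ∀ y ∈ Hs j, q x y = 0) :
    ∀ x ∈ U Hs hint m t, ∀ y ∈ U Hs hint m t', q x y = 0 := by
  refine span_orth q ?_
  rintro _ ⟨⟨x, hx⟩, rfl⟩ _ ⟨⟨y, hy⟩, rfl⟩
  exact h x.1 y.1 hx hy _ (adaptedBasis_mem Hs hint x) _ (adaptedBasis_mem Hs hint y)

include hint in
/-- semistable direction -/
theorem ss_dir
    (hA : ∀ V : Submodule K H, V ≠ ⊥ → (∀ x ∈ V, ∀ y ∈ V, q x y = 0) →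
      finrank K V + finrank K (perp q V) ≤ finrank K H)
    (hH : 0 < finrank K H)
    (hsum : ∑ i, m i * (finrank K (Hs i) : ℤ) = 0)
    (hneg : ∀ i j, (∃ x ∈ Hs i, ∃ y ∈ Hs j, q x y ≠ 0) → 0 < m i + m j) : False := by
  set d : ι → ℕ := fun i => finrank K (Hs i) with hd
  have hD : finrank K H = ∑ i, d i := finrank_H Hs hint
  have orth : ∀ t t' : ℤ, t + t' ≤ 0 →
      ∀ x ∈ U Hs hint m t, ∀ y ∈ U Hs hint m t', q x y = 0 := by
    intro t t' htt
    refine U_orth q Hs hint m ?_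
    intro i j hi hj x hx y hy
    by_contra hne
    have := hneg i j ⟨x, hx, y, hy, hne⟩
    omega
  have key : ∀ t : ℤ, t ≤ 0 → fN m d t + fN m d (-t) ≤ ∑ i, d i := by
    intro t ht
    rw [← finrank_U Hs hint m t, ← finrank_U Hs hint m (-t), ← hD]
    by_cases hU : U Hs hint m t = ⊥
    · rw [hU, finrank_bot, zero_add]
      exact Submodule.finrank_le _
    · have h1 := hA _ hU (orth t t (by omega))
      have h2 : U Hs hint m (-t) ≤ perp q (U Hs hint m t) := by
        intro x hx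
        exact (mem_perp q).2 fun y hy => orth (-t) t (by omega) x hx y hy
      have h3 := Submodule.finrank_mono h2
      omega
  obtain ⟨T, hT⟩ := exists_bound m
  have hs := sum_eq2 m d T (fun i => ⟨(hT i).1, by have := (hT i).2; omega⟩)
  rw [hsum] at hs
  have hnonneg : 0 ≤ ∑ t ∈ Finset.range T,
      (((∑ i, d i : ℕ) : ℤ) - (fN m d ((t : ℤ) + 1) : ℤ) - (fN m d (-((t : ℤ) + 1)) : ℤ)) := by
    refine Finset.sum_nonneg fun t _ => ?_
    have := key (-((t : ℤ) + 1)) (by omega)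
    rw [neg_neg] at this
    have : ((fN m d (-((t : ℤ) + 1)) + fN m d ((t : ℤ) + 1) : ℕ) : ℤ) ≤ ((∑ i, d i : ℕ) : ℤ) := by
      exact_mod_cast this
    push_cast at this ⊢
    linarith
  have h0 := key 0 le_rfl
  rw [neg_zero] at h0
  have h0' : ((fN m d 0 + fN m d 0 : ℕ) : ℤ) ≤ ((∑ i, d i : ℕ) : ℤ) := by exact_mod_cast h0
  have hpos : (0 : ℤ) < ((∑ i, d i : ℕ) : ℤ) := by rw [← hD]; exact_mod_cast hH
  push_cast at h0' hpos hs hnonneg
  linarith

include hint in
/-- stable direction -/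
theorem st_dir
    (hA : ∀ V : Submodule K H, V ≠ ⊥ → (∀ x ∈ V, ∀ y ∈ V, q x y = 0) →
      finrank K V + finrank K (perp q V) < finrank K H)
    (hsum : ∑ i, m i * (finrank K (Hs i) : ℤ) = 0)
    (hex : ∃ i, m i ≠ 0 ∧ Hs i ≠ ⊥)
    (hneg : ∀ i j, (∃ x ∈ Hs i, ∃ y ∈ Hs j, q x y ≠ 0) → 0 ≤ m i + m j) : False := by
  set d : ι → ℕ := fun i => finrank K (Hs i) with hd
  have hD : finrank K H = ∑ i, d i := finrank_H Hs hint
  have orth : ∀ t t' : ℤ, t + t' < 0 →
      ∀ x ∈ U Hs hint m t, ∀ y ∈ U Hs hint m t', q x y = 0 := by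
    intro t t' htt
    refine U_orth q Hs hint m ?_
    intro i j hi hj x hx y hy
    by_contra hne
    have := hneg i j ⟨x, hx, y, hy, hne⟩
    omega
  have key : ∀ t : ℤ, t ≤ -1 → fN m d t + fN m d (-t - 1) ≤ ∑ i, d i ∧
      (0 < fN m d t → fN m d t + fN m d (-t - 1) < ∑ i, d i) := by
    intro t ht
    rw [← finrank_U Hs hint m t, ← finrank_U Hs hint m (-t - 1), ← hD]
    by_cases hU : U Hs hint m t = ⊥
    · rw [hU, finrank_bot, zero_add]
      exact ⟨Submodule.finrank_le _, fun h => absurd h (lt_irrefl _)⟩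
    · have h1 := hA _ hU (orth t t (by omega))
      have h2 : U Hs hint m (-t - 1) ≤ perp q (U Hs hint m t) := by
        intro x hx
        exact (mem_perp q).2 fun y hy => orth (-t - 1) t (by omega) x hx y hy
      have h3 := Submodule.finrank_mono h2
      exact ⟨by omega, fun _ => by omega⟩
  obtain ⟨T, hT⟩ := exists_bound m
  have hs := sum_eq1 m d (T + 1) (fun i => ⟨by have := (hT i).1; push_cast; omega,
    by have := (hT i).2; push_cast; omega⟩)
  rw [hsum] at hs
  have hterm : ∀ t ∈ Finset.range (T + 1), (0 : ℤ) ≤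
      (((∑ i, d i : ℕ) : ℤ) - (fN m d t : ℤ) - (fN m d (-(t : ℤ) - 1) : ℤ)) := by
    intro t _
    have := (key (-(t : ℤ) - 1) (by omega)).1
    have e : -(-(t : ℤ) - 1) - 1 = t := by ring
    rw [e] at this
    have : ((fN m d (-(t : ℤ) - 1) + fN m d t : ℕ) : ℤ) ≤ ((∑ i, d i : ℕ) : ℤ) := by
      exact_mod_cast this
    push_cast at this ⊢
    linarith
  have hz := (Finset.sum_eq_zero_iff_of_nonneg hterm).1 hs.symm 0 (by simp)
  simp only [Nat.cast_zero, neg_zero, zero_sub] at hz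
  have k1 := key (-1) le_rfl
  have e1 : -(-1 : ℤ) - 1 = 0 := by ring
  rw [e1] at k1
  have hf1 : fN m d (-1) = 0 := by
    by_contra hne
    have := k1.2 (Nat.pos_of_ne_zero hne)
    have : ((fN m d (-1) + fN m d 0 : ℕ) : ℤ) < ((∑ i, d i : ℕ) : ℤ) := by exact_mod_cast this
    push_cast at this hz
    linarith
  have hf0 : fN m d 0 = ∑ i, d i := by
    have : ((fN m d 0 : ℕ) : ℤ) = ((∑ i, d i : ℕ) : ℤ) := by
      rw [hf1] at hz
      push_cast at hz ⊢
      linarith
    exact_mod_cast this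
  obtain ⟨i, hmi, hHi⟩ := hex
  have hdi : 0 < d i := by
    rw [hd]
    exact Module.finrank_pos_iff.2 ((Submodule.nontrivial_iff_ne_bot).2 hHi)
  rcases lt_or_gt_of_ne hmi with h | h
  · have := le_fN m d (t := -1) (i := i) (by omega)
    omega
  · have := fN_add_le m d (t := 0) (i := i) h
    omega

end Lin

/-! ### from the numerical criterion to subspaces -/

section Three

open Module

variable {K : Type*} [Field K] {H W : Type*} [AddCommGroup H] [Module K H] [FiniteDimensional K H]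
  [AddCommGroup W] [Module K W] (q : H →ₗ[K] H →ₗ[K] W)

theorem exists_three (V : Submodule K H) (hV : ∀ x ∈ V, ∀ y ∈ V, q x y = 0) :
    ∃ V' V'' : Submodule K H, DirectSum.IsInternal ![V, V', V''] ∧ V' ≤ perp q V ∧
      finrank K V + finrank K V' = finrank K (perp q V) ∧
      finrank K (perp q V) + finrank K V'' = finrank K H := by
  have hle : V ≤ perp q V := fun x hx => (mem_perp q).2 fun y hy => hV x hx y hy
  obtain ⟨C, hC⟩ := Submodule.exists_isCompl V
  obtain ⟨V'', hV''⟩ := Submodule.exists_isCompl (perp q V)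
  set V' := C ⊓ perp q V with hV'
  have d1 : Disjoint V V' := hC.disjoint.mono_right inf_le_left
  have s1 : V ⊔ V' = perp q V := by
    rw [hV', ← sup_inf_assoc_of_le C hle, hC.sup_eq_top, top_inf_eq]
  have d2 : Disjoint (V ⊔ V') V'' := by rw [s1]; exact hV''.disjoint
  refine ⟨V', V'', ?_, inf_le_right, ?_, ?_⟩
  · refine DirectSum.isInternal_submodule_of_iSupIndep_of_iSup_eq_top ?_ ?_
    · rw [iSupIndep_fin_three]
      refine ⟨d1.disjoint_sup_right_of_disjoint_sup_left d2, ?_, d2.symm⟩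
      have d2' : Disjoint (V' ⊔ V) V'' := by rwa [sup_comm]
      have := d1.symm.disjoint_sup_right_of_disjoint_sup_left d2'
      rwa [sup_comm] at this
    · rw [iSup_fin_three]
      show V ⊔ V' ⊔ V'' = ⊤
      rw [s1, hV''.sup_eq_top]
  · have := Submodule.finrank_sup_add_finrank_inf_eq V V'
    rw [d1.eq_bot, finrank_bot, add_zero, s1] at this
    exact this.symm
  · have := Submodule.finrank_sup_add_finrank_inf_eq (perp q V) V''
    rw [hV''.disjoint.eq_bot, finrank_bot, add_zero, hV''.sup_eq_top, finrank_top] at this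
    exact this.symm

theorem fin_three_cases (i : Fin 3) : i = 0 ∨ i = 1 ∨ i = 2 := by
  fin_cases i <;> simp

variable (hsym : ∀ x y, q x y = 0 → q y x = 0)

include hsym in
theorem ss_conv (hq0 : q ≠ 0)
    (hB : ∀ (Hs : Fin 3 → Submodule K H) (m : Fin 3 → ℤ), DirectSum.IsInternal Hs →
      (∑ i, m i * (finrank K (Hs i) : ℤ)) = 0 → (∃ i, m i ≠ 0 ∧ Hs i ≠ ⊥) →
      ∃ i j, (∃ x ∈ Hs i, ∃ y ∈ Hs j, q x y ≠ 0) ∧ m i + m j ≤ 0)
    (V : Submodule K H) (hV0 : V ≠ ⊥) (hV : ∀ x ∈ V, ∀ y ∈ V, q x y = 0) :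
    finrank K V + finrank K (perp q V) ≤ finrank K H := by
  by_contra hlt
  rw [not_le] at hlt
  obtain ⟨V', V'', hint, hV'P, hab, hpc⟩ := exists_three q V hV
  set a := finrank K V with ha
  set b := finrank K V' with hb
  set c := finrank K V'' with hc
  have ha1 : 1 ≤ a := Module.finrank_pos_iff.2 ((Submodule.nontrivial_iff_ne_bot).2 hV0)
  have hac : c + 1 ≤ a := by omega
  have hbc : 0 < b + c := by
    by_contra hbc
    have hVtop : V = ⊤ := Submodule.eq_top_of_finrank_eq (by omega)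
    apply hq0
    ext x y
    exact hV x (hVtop ▸ Submodule.mem_top) y (hVtop ▸ Submodule.mem_top)
  set N : ℕ := b + 1 with hN
  have hmul : (c + 1) * N ≤ a * N := Nat.mul_le_mul_right _ hac
  have hmulZ : ((c : ℤ) + 1) * (N : ℤ) ≤ (a : ℤ) * (N : ℤ) := by exact_mod_cast hmul
  have hNZ : (N : ℤ) = (b : ℤ) + 1 := by rw [hN]; push_cast; ring
  set m : Fin 3 → ℤ := ![-((b : ℤ) + c * N), a, a * N] with hm
  have hsum : (∑ i, m i * (finrank K ((![V, V', V''] : Fin 3 → Submodule K H) i) : ℤ)) = 0 := by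
    rw [Fin.sum_univ_three]
    show (-((b : ℤ) + c * N)) * (a : ℤ) + (a : ℤ) * (b : ℤ) + (a : ℤ) * N * (c : ℤ) = 0
    ring
  have hex : ∃ i, m i ≠ 0 ∧ (![V, V', V''] : Fin 3 → Submodule K H) i ≠ ⊥ := by
    refine ⟨0, ?_, hV0⟩
    show (-((b : ℤ) + c * N)) ≠ 0
    have h1 : (0 : ℤ) < (b : ℤ) + c := by exact_mod_cast hbc
    have h2 : (0 : ℤ) ≤ (c : ℤ) * (b : ℤ) := by positivity
    rw [hNZ]
    intro h
    have : (b : ℤ) + c * (b + 1) = (b : ℤ) + c + c * b := by ring
    linarith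
  obtain ⟨i, j, ⟨x, hx, y, hy, hne⟩, hle⟩ := hB _ m hint hsum hex
  have haZ : (1 : ℤ) ≤ (a : ℤ) := by exact_mod_cast ha1
  have hNpos : (0 : ℤ) < (N : ℤ) := by rw [hNZ]; positivity
  have haN : (0 : ℤ) < (a : ℤ) * N := by positivity
  rcases fin_three_cases i with rfl | rfl | rfl <;> rcases fin_three_cases j with rfl | rfl | rfl
  · exact hne (hV x hx y hy)
  · exact hne (hsym _ _ ((mem_perp q).1 (hV'P hy) x hx))
  · have hle' : (-((b : ℤ) + c * N)) + (a : ℤ) * N ≤ 0 := hle
    rw [hNZ] at hle' hmulZ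
    nlinarith
  · exact hne ((mem_perp q).1 (hV'P hx) y hy)
  · have hle' : (a : ℤ) + (a : ℤ) ≤ 0 := hle
    linarith
  · have hle' : (a : ℤ) + (a : ℤ) * N ≤ 0 := hle
    linarith
  · have hle' : (a : ℤ) * N + (-((b : ℤ) + c * N)) ≤ 0 := hle
    rw [hNZ] at hle' hmulZ
    nlinarith
  · have hle' : (a : ℤ) * N + (a : ℤ) ≤ 0 := hle
    linarith
  · have hle' : (a : ℤ) * N + (a : ℤ) * N ≤ 0 := hle
    linarith

include hsym in
theorem st_conv (hq0 : q ≠ 0)
    (hB : ∀ (Hs : Fin 3 → Submodule K H) (m : Fin 3 → ℤ), DirectSum.IsInternal Hs →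
      (∑ i, m i * (finrank K (Hs i) : ℤ)) = 0 → (∃ i, m i ≠ 0 ∧ Hs i ≠ ⊥) →
      ∃ i j, (∃ x ∈ Hs i, ∃ y ∈ Hs j, q x y ≠ 0) ∧ m i + m j < 0)
    (V : Submodule K H) (hV0 : V ≠ ⊥) (hV : ∀ x ∈ V, ∀ y ∈ V, q x y = 0) :
    finrank K V + finrank K (perp q V) < finrank K H := by
  by_contra hlt
  rw [not_lt] at hlt
  obtain ⟨V', V'', hint, hV'P, hab, hpc⟩ := exists_three q V hV
  set a := finrank K V with ha
  set b := finrank K V' with hb
  set c := finrank K V'' with hc
  have ha1 : 1 ≤ a := Module.finrank_pos_iff.2 ((Submodule.nontrivial_iff_ne_bot).2 hV0)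
  have hac : c ≤ a := by omega
  have hbc : 0 < b + c := by
    by_contra hbc
    have hVtop : V = ⊤ := Submodule.eq_top_of_finrank_eq (by omega)
    apply hq0
    ext x y
    exact hV x (hVtop ▸ Submodule.mem_top) y (hVtop ▸ Submodule.mem_top)
  have haZ : (1 : ℤ) ≤ (a : ℤ) := by exact_mod_cast ha1
  have hacZ : (c : ℤ) ≤ (a : ℤ) := by exact_mod_cast hac
  by_cases hc0 : c = 0
  · -- weights (-b, a, 0)
    have hb0 : 0 < b := by omega
    have hV''bot : V'' = ⊥ := Submodule.finrank_eq_zero.1 (hc0 ▸ hc.symm)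
    set m : Fin 3 → ℤ := ![-(b : ℤ), a, 0] with hm
    have hsum : (∑ i, m i * (finrank K ((![V, V', V''] : Fin 3 → Submodule K H) i) : ℤ)) = 0 := by
      rw [Fin.sum_univ_three]
      show (-(b : ℤ)) * (a : ℤ) + (a : ℤ) * (b : ℤ) + 0 * (c : ℤ) = 0
      ring
    have hex : ∃ i, m i ≠ 0 ∧ (![V, V', V''] : Fin 3 → Submodule K H) i ≠ ⊥ := by
      refine ⟨0, ?_, hV0⟩
      show (-(b : ℤ)) ≠ 0
      have : (0 : ℤ) < (b : ℤ) := by exact_mod_cast hb0
      linarith
    obtain ⟨i, j, ⟨x, hx, y, hy, hne⟩, hle⟩ := hB _ m hint hsum hex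
    rcases fin_three_cases i with rfl | rfl | rfl <;> rcases fin_three_cases j with rfl | rfl | rfl
    · exact hne (hV x hx y hy)
    · exact hne (hsym _ _ ((mem_perp q).1 (hV'P hy) x hx))
    · have hy' : y ∈ V'' := hy
      rw [hV''bot, Submodule.mem_bot] at hy'
      exact hne (by rw [hy', map_zero])
    · exact hne ((mem_perp q).1 (hV'P hx) y hy)
    · have hle' : (a : ℤ) + (a : ℤ) < 0 := hle
      linarith
    · have hy' : y ∈ V'' := hy
      rw [hV''bot, Submodule.mem_bot] at hy'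
      exact hne (by rw [hy', map_zero])
    · have hx' : x ∈ V'' := hx
      rw [hV''bot, Submodule.mem_bot] at hx'
      exact hne (by rw [hx', map_zero, LinearMap.zero_apply])
    · have hx' : x ∈ V'' := hx
      rw [hV''bot, Submodule.mem_bot] at hx'
      exact hne (by rw [hx', map_zero, LinearMap.zero_apply])
    · have hx' : x ∈ V'' := hx
      rw [hV''bot, Submodule.mem_bot] at hx'
      exact hne (by rw [hx', map_zero, LinearMap.zero_apply])
  · -- weights (-c, 0, a)
    have hcpos : 0 < c := Nat.pos_of_ne_zero hc0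
    have hV''ne : V'' ≠ ⊥ := fun h => hc0 (by rw [hc, h, finrank_bot])
    set m : Fin 3 → ℤ := ![-(c : ℤ), 0, a] with hm
    have hsum : (∑ i, m i * (finrank K ((![V, V', V''] : Fin 3 → Submodule K H) i) : ℤ)) = 0 := by
      rw [Fin.sum_univ_three]
      show (-(c : ℤ)) * (a : ℤ) + 0 * (b : ℤ) + (a : ℤ) * (c : ℤ) = 0
      ring
    have hex : ∃ i, m i ≠ 0 ∧ (![V, V', V''] : Fin 3 → Submodule K H) i ≠ ⊥ := by
      refine ⟨2, ?_, hV''ne⟩
      show (a : ℤ) ≠ 0
      linarith
    obtain ⟨i, j, ⟨x, hx, y, hy, hne⟩, hle⟩ := hB _ m hint hsum hex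
    rcases fin_three_cases i with rfl | rfl | rfl <;> rcases fin_three_cases j with rfl | rfl | rfl
    · exact hne (hV x hx y hy)
    · exact hne (hsym _ _ ((mem_perp q).1 (hV'P hy) x hx))
    · have hle' : (-(c : ℤ)) + (a : ℤ) < 0 := hle
      linarith
    · exact hne ((mem_perp q).1 (hV'P hx) y hy)
    · have hle' : (0 : ℤ) + 0 < 0 := hle
      linarith
    · have hle' : (0 : ℤ) + (a : ℤ) < 0 := hle
      linarith
    · have hle' : (a : ℤ) + (-(c : ℤ)) < 0 := hle
      linarith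
    · have hle' : (a : ℤ) + 0 < 0 := hle
      linarith
    · have hle' : (a : ℤ) + (a : ℤ) < 0 := hle
      linarith

end Three

end Groth.Agent.Helper5.NumCrit
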