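import Mathlib

set_option linter.unusedSectionVars false

namespace Groth.Agent.Lib.Helper5.PLinear

open Polynomial

section Basic

variable {p : ℕ} {k : Type*} [Field k] {V : Type*} [AddCommGroup V] [Module k V]
  (F : V →+ V) (hF : ∀ (a : k) (v : V), F (a • v) = a ^ p • F v)

include hF in
lemma iterate_smul (m : ℕ) (a : k) (v : V) : (⇑F)^[m] (a • v) = a ^ (p ^ m) • (⇑F)^[m] v := by
  induction m with
  | zero => simp
  | succ m ih =>
    rw [Function.iterate_succ_apply', ih, hF, Function.iterate_succ_apply', ← pow_mul, ← pow_succ]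

/-- kernel of the `m`-th iterate as a submodule -/
def K (m : ℕ) : Submodule k V where
  carrier := {v | (⇑F)^[m] v = 0}
  add_mem' := fun {x y} hx hy => by
    change (⇑F)^[m] (x + y) = 0
    rw [iterate_map_add, hx, hy, add_zero]
  zero_mem' := iterate_map_zero F m
  smul_mem' := fun a x hx => by
    change (⇑F)^[m] (a • x) = 0
    rw [iterate_smul F hF, hx, smul_zero]

lemma mem_K {m : ℕ} {v : V} : v ∈ K F hF m ↔ (⇑F)^[m] v = 0 := Iff.rfl

lemma K_mono : Monotone (K F hF) := by
  intro m n hmn v hv
  rw [mem_K] at hv ⊢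
  obtain ⟨j, rfl⟩ := Nat.exists_eq_add_of_le hmn
  rw [add_comm, Function.iterate_add_apply, hv, iterate_map_zero]

end Basic

section Perfect

variable {p : ℕ} [hp : Fact p.Prime] {k : Type*} [Field k] [IsAlgClosed k]
  {V : Type*} [AddCommGroup V] [Module k V]
  (F : V →+ V) (hF : ∀ (a : k) (v : V), F (a • v) = a ^ p • F v)

/-- image of the `m`-th iterate as a submodule -/
def Im (m : ℕ) : Submodule k V where
  carrier := {v | ∃ w, (⇑F)^[m] w = v}
  add_mem' := by
    rintro _ _ ⟨x, rfl⟩ ⟨y, rfl⟩
    exact ⟨x + y, iterate_map_add F m x y⟩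
  zero_mem' := ⟨0, iterate_map_zero F m⟩
  smul_mem' := by
    rintro a _ ⟨x, rfl⟩
    obtain ⟨b, hb⟩ := IsAlgClosed.exists_pow_nat_eq a (pow_pos hp.out.pos m)
    exact ⟨b • x, by rw [iterate_smul F hF, hb]⟩

lemma mem_Im {m : ℕ} {v : V} : v ∈ Im F hF m ↔ ∃ w, (⇑F)^[m] w = v := Iff.rfl

lemma Im_anti : Antitone (Im F hF) := by
  intro m n hmn v hv
  obtain ⟨w, rfl⟩ := hv
  obtain ⟨j, rfl⟩ := Nat.exists_eq_add_of_le hmn
  exact ⟨(⇑F)^[j] w, by rw [← Function.iterate_add_apply]⟩

variable [FiniteDimensional k V]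

/-- Fitting decomposition for p-linear maps -/
lemma exists_fitting : ∃ N : ℕ, 1 ≤ N ∧ (∀ m, N ≤ m → K F hF N = K F hF m) ∧
    (∀ m, N ≤ m → Im F hF N = Im F hF m) ∧ IsCompl (Im F hF N) (K F hF N) := by
  obtain ⟨n1, h1⟩ := monotone_stabilizes_iff_noetherian.2 inferInstance
    (⟨K F hF, K_mono F hF⟩ : ℕ →o Submodule k V)
  obtain ⟨n2, h2⟩ := IsArtinian.monotone_stabilizes
    (⟨fun m => OrderDual.toDual (Im F hF m), fun m n hmn => Im_anti F hF hmn⟩ :
      ℕ →o (Submodule k V)ᵒᵈ)
  simp only [OrderHom.coe_mk] at h1 h2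
  set N := max n1 n2 + 1 with hN
  have hK : ∀ m, N ≤ m → K F hF N = K F hF m := by
    intro m hm
    rw [← h1 N (by omega), ← h1 m (by omega)]
  have hI : ∀ m, N ≤ m → Im F hF N = Im F hF m := by
    intro m hm
    have e1 := h2 N (by omega)
    have e2 := h2 m (by omega)
    exact (OrderDual.toDual.injective e1).symm.trans (OrderDual.toDual.injective e2)
  refine ⟨N, by omega, hK, hI, ?_⟩
  constructor
  · rw [Submodule.disjoint_def]
    rintro v ⟨w, rfl⟩ hv
    rw [mem_K, ← Function.iterate_add_apply] at hv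
    have : w ∈ K F hF N := by
      rw [hK (N + N) (by omega)]; exact hv
    exact this
  · rw [codisjoint_iff, eq_top_iff]
    intro v _
    have h1 : (⇑F)^[N] v ∈ Im F hF (N + N) := by
      rw [← hI (N + N) (by omega)]; exact ⟨v, rfl⟩
    obtain ⟨w, hw⟩ := h1
    rw [Function.iterate_add_apply] at hw
    have h2 : v - (⇑F)^[N] w ∈ K F hF N := by
      rw [mem_K, iterate_map_sub, hw, sub_self]
    have h3 : (⇑F)^[N] w ∈ Im F hF N := ⟨w, rfl⟩
    have : v = (⇑F)^[N] w + (v - (⇑F)^[N] w) := by abel
    rw [this]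
    exact Submodule.add_mem_sup h3 h2

end Perfect

section Indep

variable {p : ℕ} [hp : Fact p.Prime] {k : Type*} [Field k] [CharP k p]

lemma exists_natCast_of_pow_eq (a : k) (h : a ^ p = a) : ∃ n : ℕ, (n : k) = a := by
  classical
  have hp1 : 1 < p := hp.out.one_lt
  set f : k[X] := X ^ p - X with hf
  have hf0 : f ≠ 0 := FiniteField.X_pow_card_sub_X_ne_zero k hp1
  have hdeg : f.natDegree = p := FiniteField.X_pow_card_sub_X_natDegree_eq k hp1
  set S : Finset k := (Finset.range p).image (fun n : ℕ => (n : k)) with hS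
  have hScard : S.card = p := by
    rw [hS, Finset.card_image_of_injOn, Finset.card_range]
    intro x hx y hy hxy
    exact CharP.natCast_injOn_Iio k p (by simpa using hx) (by simpa using hy) hxy
  have hSsub : S ⊆ f.roots.toFinset := by
    intro x hx
    rw [hS, Finset.mem_image] at hx
    obtain ⟨n, -, rfl⟩ := hx
    rw [Multiset.mem_toFinset, mem_roots hf0, IsRoot, hf, eval_sub, eval_pow, eval_X]
    have : ((n : k)) ^ p = n := by
      have := map_natCast (frobenius k p) n
      rwa [frobenius_def] at this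
    rw [this, sub_self]
  have hle : f.roots.toFinset.card ≤ S.card := by
    rw [hScard, ← hdeg]
    exact (Multiset.toFinset_card_le _).trans (card_roots' f)
  have heq := Finset.eq_of_subset_of_card_le hSsub hle
  have ha : a ∈ f.roots.toFinset := by
    rw [Multiset.mem_toFinset, mem_roots hf0, IsRoot, hf, eval_sub, eval_pow, eval_X, h, sub_self]
  rw [← heq, hS, Finset.mem_image] at ha
  obtain ⟨n, -, hn⟩ := ha
  exact ⟨n, hn⟩

variable {V : Type*} [AddCommGroup V] [Module k V]
  (F : V →+ V) (hF : ∀ (a : k) (v : V), F (a • v) = a ^ p • F v)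

include hF in
/-- key lemma: a `k`-linear relation among fixed vectors has coefficients in the prime field
after normalisation; by induction on the support. -/
lemma relation_fixed (s : Finset V) (hs : ∀ v ∈ s, F v = v)
    (hind : ∀ c : s → ℤ, (∑ v : s, c v • (v : V)) = 0 → ∀ v : s, (p : ℤ) ∣ c v) :
    ∀ (n : ℕ) (t : Finset s) (a : s → k), t.card = n → (∑ v ∈ t, a v • (v : V)) = 0 →
      ∀ v ∈ t, a v = 0 := by
  classical
  intro n
  induction n using Nat.strong_induction_on with
  | _ n ih =>
    intro t a htn hrel v0 hv0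
    by_contra hne
    -- normalise
    set b : s → k := fun v => a v / a v0 with hb
    have hb0 : b v0 = 1 := div_self hne
    have hrelb : (∑ v ∈ t, b v • (v : V)) = 0 := by
      have : (∑ v ∈ t, b v • (v : V)) = (a v0)⁻¹ • ∑ v ∈ t, a v • (v : V) := by
        rw [Finset.smul_sum]
        refine Finset.sum_congr rfl fun v _ => ?_
        rw [smul_smul]
        show (a v / a v0) • (v : V) = _
        rw [div_eq_inv_mul]
      rw [this, hrel, smul_zero]
    -- apply F
    have hFrel : (∑ v ∈ t, (b v) ^ p • (v : V)) = 0 := by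
      have := congrArg F hrelb
      rw [map_sum, map_zero] at this
      rw [← this]
      refine Finset.sum_congr rfl fun v _ => ?_
      rw [hF, hs v.1 v.2]
    have hdiff : (∑ v ∈ t.erase v0, ((b v) ^ p - b v) • (v : V)) = 0 := by
      have h1 : (∑ v ∈ t, ((b v) ^ p - b v) • (v : V)) = 0 := by
        simp only [sub_smul, Finset.sum_sub_distrib, hFrel, hrelb, sub_self]
      rw [← Finset.add_sum_erase _ _ hv0, hb0, one_pow, sub_self, zero_smul, zero_add] at h1
      exact h1
    have hcard : (t.erase v0).card < n := by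
      rw [Finset.card_erase_of_mem hv0, htn]
      have : 0 < t.card := Finset.card_pos.2 ⟨v0, hv0⟩
      omega
    have hfix : ∀ v ∈ t, (b v) ^ p = b v := by
      intro v hv
      by_cases hvv : v = v0
      · rw [hvv, hb0, one_pow]
      · have := ih _ hcard (t.erase v0) (fun v => (b v) ^ p - b v) rfl hdiff v
          (Finset.mem_erase.2 ⟨hvv, hv⟩)
        exact sub_eq_zero.1 this
    -- integer coefficients
    have hex : ∀ v : s, ∃ m : ℕ, v ∈ t → (m : k) = b v := by
      intro v
      by_cases hv : v ∈ t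
      · obtain ⟨m, hm⟩ := exists_natCast_of_pow_eq (p := p) (b v) (hfix v hv)
        exact ⟨m, fun _ => hm⟩
      · exact ⟨0, fun h => absurd h hv⟩
    choose m hm using hex
    set c : s → ℤ := fun v => if v ∈ t then (m v : ℤ) else 0 with hc
    have hcrel : (∑ v : s, c v • (v : V)) = 0 := by
      rw [← hrelb, ← Finset.sum_subset (Finset.subset_univ t)]
      · refine Finset.sum_congr rfl fun v hv => ?_
        rw [hc]
        simp only [hv, if_true]
        rw [← hm v hv, natCast_zsmul, Nat.cast_smul_eq_nsmul]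
      · intro v _ hv
        rw [hc]
        simp only [hv, if_false, zero_smul]
    have hdvd := hind c hcrel v0
    rw [hc] at hdvd
    simp only [hv0, if_true] at hdvd
    have h1 : ((m v0 : ℕ) : k) = 0 := by
      rw [CharP.cast_eq_zero_iff k p]
      exact_mod_cast hdvd
    rw [hm v0 hv0, hb0] at h1
    exact one_ne_zero h1

include hF in
lemma linearIndependent_fixed (s : Finset V) (hs : ∀ v ∈ s, F v = v)
    (hind : ∀ c : s → ℤ, (∑ v : s, c v • (v : V)) = 0 → ∀ v : s, (p : ℤ) ∣ c v) :
    LinearIndependent k (fun v : s => (v : V)) := by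
  rw [linearIndependent_iff']
  intro t a hrel v hv
  exact relation_fixed F hF s hs hind t.card t a rfl hrel v hv

end Indep

section Poly

variable {p : ℕ} [hp : Fact p.Prime] {k : Type*} [Field k]

lemma exists_artinSchreier [IsAlgClosed k] (c : k) : ∃ y : k, y ^ p - y = c := by
  have hp1 : 1 < p := hp.out.one_lt
  set g : k[X] := X ^ p - X - C c with hg
  have hdeg : g.degree ≠ 0 := by
    have h1 : (X ^ p - X : k[X]).degree = p := by
      rw [degree_eq_natDegree (FiniteField.X_pow_card_sub_X_ne_zero k hp1),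
        FiniteField.X_pow_card_sub_X_natDegree_eq k hp1]
    have h2 : (C c : k[X]).degree < (X ^ p - X : k[X]).degree := by
      rw [h1]
      exact lt_of_le_of_lt degree_C_le (by exact_mod_cast hp.out.pos)
    rw [hg, degree_sub_eq_left_of_degree_lt h2, h1]
    exact_mod_cast hp.out.ne_zero
  obtain ⟨y, hy⟩ := IsAlgClosed.exists_root g hdeg
  refine ⟨y, ?_⟩
  rw [IsRoot, hg, eval_sub, eval_sub, eval_pow, eval_X, eval_C, sub_eq_zero] at hy
  exact hy

/-- the recursion polynomials -/
noncomputable def Q (p : ℕ) (a : ℕ → k) : ℕ → k[X]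
  | 0 => C (a 0) * X ^ p
  | (i + 1) => (Q p a i) ^ p + C (a (i + 1)) * X ^ p

lemma Q_zero (a : ℕ → k) : Q p a 0 = C (a 0) * X ^ p := rfl
lemma Q_succ (a : ℕ → k) (i : ℕ) : Q p a (i + 1) = (Q p a i) ^ p + C (a (i + 1)) * X ^ p := rfl

lemma X_pow_dvd_Q (a : ℕ → k) (i : ℕ) : (X : k[X]) ^ p ∣ Q p a i := by
  induction i with
  | zero => exact Dvd.intro_left _ rfl
  | succ i ih =>
    rw [Q_succ]
    apply dvd_add
    · exact ih.trans (dvd_pow_self _ hp.out.ne_zero)
    · exact Dvd.intro_left _ rfl

lemma Q_eq_zero (a : ℕ → k) (i : ℕ) (h : Q p a i = 0) : ∀ j ≤ i, a j = 0 := by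
  induction i with
  | zero =>
    intro j hj
    obtain rfl : j = 0 := by omega
    rw [Q_zero] at h
    have := congrArg (fun f => coeff f p) h
    simpa using this
  | succ i ih =>
    rw [Q_succ] at h
    obtain ⟨R, hR⟩ := X_pow_dvd_Q (p := p) a i
    have h1 : coeff ((Q p a i) ^ p) p = 0 := by
      rw [hR, mul_pow, ← pow_mul, coeff_X_pow_mul', if_neg]
      have : p < p * p := by
        have := hp.out.one_lt
        nlinarith
      omega
    have h2 : a (i + 1) = 0 := by
      have := congrArg (fun f => coeff f p) h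
      simp only [coeff_add, h1, zero_add, coeff_zero, coeff_C_mul, coeff_X_pow, if_true,
        mul_one] at this
      exact this
    rw [h2, C_0, zero_mul, add_zero] at h
    have h3 : Q p a i = 0 := pow_eq_zero_iff (hp.out.ne_zero) |>.1 h
    intro j hj
    rcases Nat.lt_or_ge j (i + 1) with hlt | hge
    · exact ih h3 j (by omega)
    · obtain rfl : j = i + 1 := by omega
      exact h2

lemma exists_root_Q [IsAlgClosed k] (a : ℕ → k) (i : ℕ) (h : ∃ j ≤ i, a j ≠ 0) :
    ∃ t : k, t ≠ 0 ∧ eval t (Q p a i) = t := by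
  have hp1 : 1 ≤ p - 1 := by have := hp.out.two_le; omega
  obtain ⟨R, hR⟩ := X_pow_dvd_Q (p := p) a i
  set H : k[X] := X ^ (p - 1) * R - 1 with hH
  have hdeg : H.degree ≠ 0 := by
    intro hd
    have hc := eq_C_of_degree_eq_zero hd
    have h0 : coeff H 0 = -1 := by
      rw [hH, coeff_sub, coeff_X_pow_mul', if_neg (by omega), coeff_one_zero, zero_sub]
    rw [h0] at hc
    have h1 : (X : k[X]) ^ (p - 1) * R = 0 := by
      have : H + 1 = 0 := by rw [hc]; simp
      rw [hH] at this
      simpa using this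
    have h2 : R = 0 := by
      rcases mul_eq_zero.1 h1 with h | h
      · exact absurd h (pow_ne_zero _ X_ne_zero)
      · exact h
    have h3 : Q p a i = 0 := by rw [hR, h2, mul_zero]
    obtain ⟨j, hj, hne⟩ := h
    exact hne (Q_eq_zero a i h3 j hj)
  obtain ⟨t, ht⟩ := IsAlgClosed.exists_root H hdeg
  rw [IsRoot, hH, eval_sub, eval_mul, eval_pow, eval_X, eval_one, sub_eq_zero] at ht
  have ht0 : t ≠ 0 := by
    rintro rfl
    rw [zero_pow (by omega), zero_mul] at ht
    exact zero_ne_one ht
  refine ⟨t, ht0, ?_⟩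
  rw [hR, eval_mul, eval_pow, eval_X]
  have : t ^ p = t * t ^ (p - 1) := by
    rw [← pow_succ']; congr 1; omega
  rw [this, mul_assoc, ht, mul_one]

end Poly

section Lang

variable {p : ℕ} [hp : Fact p.Prime] {k : Type*} [Field k] [IsAlgClosed k]
  {V : Type*} [AddCommGroup V] [Module k V]
  (F : V →+ V) (hF : ∀ (a : k) (v : V), F (a • v) = a ^ p • F v)

/-- span of the fixed vectors -/
def W : Submodule k V := Submodule.span k {v : V | F v = v}

include hF in
lemma W_stable {w : V} (hw : w ∈ W (k := k) F) : F w ∈ W (k := k) F := by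
  induction hw using Submodule.span_induction with
  | mem x hx => rw [(hx : F x = x)]; exact Submodule.subset_span hx
  | zero => rw [map_zero]; exact Submodule.zero_mem _
  | add x y _ _ hx hy => rw [map_add]; exact Submodule.add_mem _ hx hy
  | smul a x _ hx => rw [hF]; exact Submodule.smul_mem _ _ hx

include hF in
lemma W_lang {w : V} (hw : w ∈ W (k := k) F) :
    ∀ a : k, ∃ w' ∈ W (k := k) F, F w' - w' = a • w := by
  induction hw using Submodule.span_induction with
  | mem x hx =>
    intro a
    obtain ⟨y, hy⟩ := exists_artinSchreier (p := p) a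
    refine ⟨y • x, Submodule.smul_mem _ _ (Submodule.subset_span hx), ?_⟩
    rw [hF, (hx : F x = x), ← sub_smul, hy]
  | zero => intro a; exact ⟨0, Submodule.zero_mem _, by simp⟩
  | add x y _ _ hx hy =>
    intro a
    obtain ⟨x', hx', hx''⟩ := hx a
    obtain ⟨y', hy', hy''⟩ := hy a
    refine ⟨x' + y', Submodule.add_mem _ hx' hy', ?_⟩
    rw [map_add, smul_add, ← hx'', ← hy'']; abel
  | smul b x _ hx =>
    intro a
    obtain ⟨x', hx', hx''⟩ := hx (a * b)
    exact ⟨x', hx', by rw [hx'', mul_smul]⟩

include hF in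
lemma W_surj {w : V} (hw : w ∈ W (k := k) F) :
    ∀ a : k, ∃ w' ∈ W (k := k) F, F w' = a • w := by
  induction hw using Submodule.span_induction with
  | mem x hx =>
    intro a
    obtain ⟨y, hy⟩ := IsAlgClosed.exists_pow_nat_eq a hp.out.pos
    refine ⟨y • x, Submodule.smul_mem _ _ (Submodule.subset_span hx), ?_⟩
    rw [hF, (hx : F x = x), hy]
  | zero => intro a; exact ⟨0, Submodule.zero_mem _, by simp⟩
  | add x y _ _ hx hy =>
    intro a
    obtain ⟨x', hx', hx''⟩ := hx a
    obtain ⟨y', hy', hy''⟩ := hy a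
    refine ⟨x' + y', Submodule.add_mem _ hx' hy', ?_⟩
    rw [map_add, smul_add, ← hx'', ← hy'']
  | smul b x _ hx =>
    intro a
    obtain ⟨x', hx', hx''⟩ := hx (a * b)
    exact ⟨x', hx', by rw [hx'', mul_smul]⟩

include hF in
lemma mem_W_of_iterate_mem (hinj : Function.Injective F) (r : ℕ) {u : V}
    (h : (⇑F)^[r] u ∈ W (k := k) F) : u ∈ W (k := k) F := by
  induction r with
  | zero => exact h
  | succ r ih =>
    rw [Function.iterate_succ_apply'] at h
    obtain ⟨w', hw', hw''⟩ := W_surj F hF h 1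
    rw [one_smul] at hw''
    have := hinj hw''
    rw [← this] at ih
    exact ih hw'

include hF in
theorem W_eq_top [FiniteDimensional k V] (hinj : Function.Injective F) : W (k := k) F = ⊤ := by
  classical
  by_contra hne
  obtain ⟨u, hu⟩ : ∃ u, u ∉ W (k := k) F := by
    by_contra h
    push Not at h
    exact hne (eq_top_iff.2 fun x _ => h x)
  set T : ℕ → Submodule k V := fun j =>
    W (k := k) F ⊔ Submodule.span k (Set.range (fun i : Fin j => (⇑F)^[(i : ℕ)] u)) with hT
  have hTmono : Monotone T := by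
    intro m n hmn
    apply sup_le_sup_left
    apply Submodule.span_mono
    rintro _ ⟨i, rfl⟩
    exact ⟨⟨i, lt_of_lt_of_le i.2 hmn⟩, rfl⟩
  have hWT : ∀ j, W (k := k) F ≤ T j := fun j => le_sup_left
  have hmemT : ∀ i j, i < j → (⇑F)^[i] u ∈ T j := fun i j hij =>
    Submodule.mem_sup_right (Submodule.subset_span ⟨⟨i, hij⟩, rfl⟩)
  have hex : ∃ j, (⇑F)^[j] u ∈ T j := by
    obtain ⟨n, hn⟩ := monotone_stabilizes_iff_noetherian.2 inferInstance
      (⟨T, hTmono⟩ : ℕ →o Submodule k V)
    refine ⟨n, ?_⟩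
    have := hn (n + 1) (Nat.le_succ n)
    simp only [OrderHom.coe_mk] at this
    rw [this]
    exact hmemT n (n + 1) (Nat.lt_succ_self n)
  set r := Nat.find hex with hr
  have hPr : (⇑F)^[r] u ∈ T r := Nat.find_spec hex
  have hr0 : r ≠ 0 := by
    intro h0
    rw [h0] at hPr
    have hT0 : T 0 = W (k := k) F := by
      simp only [hT]
      have : Set.range (fun i : Fin 0 => (⇑F)^[(i : ℕ)] u) = ∅ := Set.range_eq_empty _
      rw [this, Submodule.span_empty, sup_bot_eq]
    rw [hT0] at hPr
    exact hu hPr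
  obtain ⟨r', hr'⟩ : ∃ r', r = r' + 1 := ⟨r - 1, by omega⟩
  have hmin : (⇑F)^[r'] u ∉ T r' := Nat.find_min hex (by omega)
  obtain ⟨w, hw, z, hz, hwz⟩ := Submodule.mem_sup.1 hPr
  obtain ⟨a, ha⟩ := (Submodule.mem_span_range_iff_exists_fun k).1 hz
  set a' : ℕ → k := fun i => if h : i < r then a ⟨i, h⟩ else 0 with ha'
  have hz' : z = ∑ i ∈ Finset.range r, a' i • (⇑F)^[i] u := by
    rw [← ha, ← Fin.sum_univ_eq_sum_range (fun i => a' i • (⇑F)^[i] u) r]
    refine Finset.sum_congr rfl fun i _ => ?_
    simp only [ha', i.2, dif_pos]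
  have hsome : ∃ j ≤ r', a' j ≠ 0 := by
    by_contra hall
    push Not at hall
    have hz0 : z = 0 := by
      rw [hz']
      refine Finset.sum_eq_zero fun i hi => ?_
      rw [hall i (by rw [Finset.mem_range] at hi; omega), zero_smul]
    rw [hz0, add_zero] at hwz
    rw [hwz] at hw
    exact hu (mem_W_of_iterate_mem F hF hinj r hw)
  obtain ⟨t, ht0, htQ⟩ := exists_root_Q (p := p) a' r' hsome
  set x : ℕ → k := fun i => eval t (Q p a' i) with hx
  have hx0 : x 0 = a' 0 * t ^ p := by
    simp only [hx, Q_zero, eval_mul, eval_C, eval_pow, eval_X]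
  have hxs : ∀ i, x (i + 1) = (x i) ^ p + a' (i + 1) * t ^ p := by
    intro i
    simp only [hx, Q_succ, eval_add, eval_mul, eval_C, eval_pow, eval_X]
  have hxr : x r' = t := htQ
  set G : ℕ → V := fun i => (⇑F)^[i + 1] u with hG
  set y : V := ∑ i ∈ Finset.range r, x i • (⇑F)^[i] u with hy
  set S1 : V := ∑ i ∈ Finset.range r', (x i) ^ p • G i with hS1
  set S2 : V := ∑ i ∈ Finset.range r', a' (i + 1) • G i with hS2
  have hFy1 : F y = S1 + t ^ p • (w + (S2 + a' 0 • u)) := by
    rw [hy, map_sum, hr', Finset.sum_range_succ]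
    have h1 : ∀ i, F (x i • (⇑F)^[i] u) = (x i) ^ p • G i := by
      intro i
      rw [hF]
      simp only [hG, Function.iterate_succ_apply']
    simp only [h1]
    rw [hxr]
    congr 1
    have h2 : G r' = w + z := by
      rw [hG]
      simp only
      rw [← hr', hwz]
    rw [h2, hz', hr', Finset.sum_range_succ']
    simp only [Function.iterate_zero, id_eq]
    rfl
  have hy1 : y = S1 + t ^ p • S2 + (a' 0 * t ^ p) • u := by
    rw [hy, hr', Finset.sum_range_succ', hx0]
    simp only [Function.iterate_zero, id_eq]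
    congr 1
    rw [hS1, hS2, Finset.smul_sum, ← Finset.sum_add_distrib]
    refine Finset.sum_congr rfl fun i _ => ?_
    rw [hxs i, add_smul, smul_smul, mul_comm (t ^ p)]
  have hFy : F y = y + t ^ p • w := by
    rw [hFy1, hy1, smul_add, smul_add, smul_smul, mul_comm (t ^ p) (a' 0)]
    abel
  obtain ⟨w', hw', hw''⟩ := W_lang F hF hw (-(t ^ p))
  have hfix : F (y + w') = y + w' := by
    rw [map_add, hFy]
    have : F w' = w' + (-(t ^ p)) • w := by rw [← hw'']; abel
    rw [this, neg_smul]
    abel
  have hmemW : y + w' ∈ W (k := k) F := Submodule.subset_span hfix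
  have hyW : y ∈ W (k := k) F := by
    have := Submodule.sub_mem _ hmemW hw'
    simpa using this
  have hy2 : t • (⇑F)^[r'] u = y - ∑ i ∈ Finset.range r', x i • (⇑F)^[i] u := by
    rw [hy, hr', Finset.sum_range_succ, hxr]
    abel
  have hmem : t • (⇑F)^[r'] u ∈ T r' := by
    rw [hy2]
    apply Submodule.sub_mem _ (hWT r' hyW)
    apply Submodule.sum_mem
    intro i hi
    exact Submodule.smul_mem _ _ (hmemT i r' (Finset.mem_range.1 hi))
  apply hmin
  have := Submodule.smul_mem _ t⁻¹ hmem
  rwa [smul_smul, inv_mul_cancel₀ ht0, one_smul] at this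

end Lang

section Main

variable {p : ℕ} [hp : Fact p.Prime] {k : Type*} [Field k] [IsAlgClosed k]
  {V : Type*} [AddCommGroup V] [Module k V] [FiniteDimensional k V]
  (F : V →+ V) (hF : ∀ (a : k) (v : V), F (a • v) = a ^ p • F v)

include hF in
theorem isCompl_fixed_nilpotent :
    IsCompl (Submodule.span k {v : V | F v = v})
      (Submodule.span k {v : V | ∃ m : ℕ, (⇑F)^[m] v = 0}) := by
  obtain ⟨N, hN1, hK, hI, hcompl⟩ := exists_fitting F hF
  have hA : Submodule.span k {v : V | ∃ m : ℕ, (⇑F)^[m] v = 0} = K F hF N := by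
    apply le_antisymm
    · rw [Submodule.span_le]
      rintro v ⟨m, hm⟩
      have h1 : v ∈ K F hF (max m N) := K_mono F hF (le_max_left m N) hm
      rw [← hK (max m N) (le_max_right m N)] at h1
      exact h1
    · intro v hv
      exact Submodule.subset_span ⟨N, hv⟩
  have hstab : ∀ u ∈ Im F hF N, F u ∈ Im F hF N := by
    rintro _ ⟨w, rfl⟩
    exact ⟨F w, by rw [← Function.iterate_succ_apply, Function.iterate_succ_apply']⟩
  have hB : Submodule.span k {v : V | F v = v} = Im F hF N := by
    apply le_antisymm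
    · rw [Submodule.span_le]
      intro v hv
      exact ⟨v, Function.iterate_fixed hv N⟩
    · -- restriction of F to U
      set U := Im F hF N with hU
      let FU : U →+ U :=
        { toFun := fun u => ⟨F u.1, hstab u.1 u.2⟩
          map_zero' := Subtype.ext (map_zero F)
          map_add' := fun a b => Subtype.ext (map_add F a.1 b.1) }
      have hFU : ∀ (a : k) (v : U), FU (a • v) = a ^ p • FU v := fun a v =>
        Subtype.ext (hF a v.1)
      have hinj : Function.Injective FU := by
        rw [injective_iff_map_eq_zero]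
        intro u hu
        have h0 : F u.1 = 0 := congrArg Subtype.val hu
        have h1 : u.1 ∈ K F hF 1 := by rw [mem_K]; exact h0
        have h2 : u.1 ∈ K F hF N := K_mono F hF hN1 h1
        have h3 : u.1 ∈ Im F hF N ⊓ K F hF N := ⟨u.2, h2⟩
        rw [hcompl.1.eq_bot, Submodule.mem_bot] at h3
        exact Subtype.ext h3
      have htop := W_eq_top FU hFU hinj
      intro v hv
      have hmem : (⟨v, hv⟩ : U) ∈ W (k := k) FU := by rw [htop]; exact Submodule.mem_top
      have key : ∀ x : U, x ∈ W (k := k) FU →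
          (x : V) ∈ Submodule.span k {v : V | F v = v} := by
        intro x hx
        induction hx using Submodule.span_induction with
        | mem x hx =>
          apply Submodule.subset_span
          exact congrArg Subtype.val (hx : FU x = x)
        | zero => exact Submodule.zero_mem _
        | add x y _ _ hx hy => exact Submodule.add_mem _ hx hy
        | smul a x _ hx => exact Submodule.smul_mem _ a hx
      exact key _ hmem
  rw [hA, hB]
  exact hcompl

end Main

end Groth.Agent.Lib.Helper5.PLinear
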